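import Cfsg.Agent.TAB.F42.Defs
import Cfsg.Agent.TAB.Use.Defs
import Cfsg.Agent.Characters.Central
import Cfsg.Agent.S0157

/-!
# The constituents of a multiplicity free permutation character (helper15, TAB)

* `tw_zero` : the twisted counts are supported on the constituents of the permutation character;
* `mem_span` : `k` orthonormal class functions supported on the constituents of a character of norm `k` span them;
* `virt_span` : the check `okSpan`.
-/

set_option autoImplicit false

namespace Cfsg.Agent.TAB.F42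

open Cfsg Cfsg.Agent.TAB.Eng Cfsg.Agent.Characters Cfsg.Agent.Characters.Core Cfsg.Agent.Characters.Brauer
open Cfsg.Agent.H447.CTab
open scoped ComplexConjugate

universe u

variable {G : Type u} [Group G]

theorem tw_zero [Fintype G] {X : Type} [Fintype X] [MulAction G X] {χ : G → ℂ} (hχ : IsIrrCharacter G χ)
    (h : classInner (fun g : G => (Nat.card (MulAction.fixedBy X g) : ℂ)) χ = 0) (A : X → X → ℂ) :
    classInner (fun g : G => ∑ x, A x (g • x)) χ = 0 := by
  classical
  have hc := isIrr_isCharacter hχ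
  let F : X → X → ℂ := fun x y => ∑ g : G, if g • x = y then conj (χ g) else 0
  have hfix : ∀ u : G, (Nat.card (MulAction.fixedBy X u) : ℂ) = ∑ x : X, if u • x = x then 1 else 0 := fun u => by
    rw [Nat.card_eq_fintype_card, Finset.sum_boole]
    congr 1
    exact Fintype.card_of_subtype _ fun x => by simp
  have h1 : ∑ u : G, (Nat.card (MulAction.fixedBy X u) : ℂ) * χ u = 0 := by
    rw [classInner_def] at h
    have h2 := congrArg conj ((mul_eq_zero.1 h).resolve_left (inv_ne_zero card_ne_zero_complex))
    simpa only [map_sum, map_mul, Complex.conj_natCast, Complex.conj_conj, map_zero] using h2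
  have h2 : ∑ x, ∑ y, F x y * conj (F x y) = 0 := by
    have h3 : ∀ x, ∑ y, F x y * conj (F x y) =
        ∑ g : G, ∑ u : G, if u • x = x then χ g⁻¹ * χ (g * u) else 0 := fun x => by
      simp only [F, Finset.sum_mul, ite_mul, zero_mul]
      rw [Finset.sum_comm]
      refine Finset.sum_congr rfl fun g _ => ?_
      rw [Finset.sum_ite_eq, if_pos (Finset.mem_univ _), map_sum, Finset.mul_sum]
      refine (Fintype.sum_equiv (Equiv.mulLeft g) _ _ fun u => ?_).symm
      simp only [Equiv.coe_mulLeft, mul_smul, smul_left_cancel_iff, apply_ite conj, map_zero, Complex.conj_conj,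
        mul_ite, mul_zero, isCharacter_apply_inv hc]
    simp only [h3]
    rw [Finset.sum_comm]
    simp only [fun g : G => Finset.sum_comm (s := (Finset.univ : Finset X)) (t := (Finset.univ : Finset G))
      (f := fun x u => if u • x = x then χ g⁻¹ * χ (g * u) else 0)]
    rw [Finset.sum_comm]
    have h4 : ∀ u : G, ∑ g : G, ∑ x : X, (if u • x = x then χ g⁻¹ * χ (g * u) else 0) =
        (Nat.card G : ℂ) / χ 1 * ((Nat.card (MulAction.fixedBy X u) : ℂ) * χ u) := fun u => by
      have h5 : ∑ g : G, χ g⁻¹ * χ (g * u) = (Nat.card G : ℂ) * χ u / χ 1 := by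
        rw [← Central.sum_char_mul_char_inv_mul hχ u]
        exact Fintype.sum_equiv (Equiv.inv G) _ _ fun g => by simp
      rw [Finset.sum_comm, hfix, Finset.sum_mul, Finset.mul_sum]
      refine Finset.sum_congr rfl fun x _ => ?_
      split_ifs
      · rw [h5]; ring
      · simp
    simp only [h4]
    rw [← Finset.mul_sum, h1, mul_zero]
  have h3 : ∀ x y, F x y = 0 := by
    simp only [Complex.mul_conj] at h2
    have h4 : ∑ x, ∑ y, Complex.normSq (F x y) = 0 := by exact_mod_cast h2
    intro x y
    have h5 := (Finset.sum_eq_zero_iff_of_nonneg fun x _ =>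
      Finset.sum_nonneg fun y _ => Complex.normSq_nonneg (F x y)).1 h4 x (Finset.mem_univ _)
    exact Complex.normSq_eq_zero.1 ((Finset.sum_eq_zero_iff_of_nonneg fun y _ =>
      Complex.normSq_nonneg (F x y)).1 h5 y (Finset.mem_univ _))
  have h4 : ∑ g : G, (∑ x, A x (g • x)) * conj (χ g) = ∑ x, ∑ y, A x y * F x y := by
    simp only [F, Finset.sum_mul, Finset.mul_sum, mul_ite, mul_zero]
    rw [Finset.sum_comm]
    refine Finset.sum_congr rfl fun x _ => ?_
    rw [Finset.sum_comm]
    refine Finset.sum_congr rfl fun g _ => ?_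
    rw [Finset.sum_ite_eq, if_pos (Finset.mem_univ _)]
  rw [classInner_def, h4]
  simp only [h3, mul_zero, Finset.sum_const_zero]

theorem mem_span [Fintype G] {k : ℕ} {π : G → ℂ} (hπ : IsGeneralizedCharacter G π) (hk : classInner π π = k)
    (r : Fin k → G → ℂ) (hc : ∀ i, IsClassFunction G (r i))
    (hon : ∀ i j, classInner (r i) (r j) = if i = j then 1 else 0)
    (hs : ∀ i χ, IsIrrCharacter G χ → classInner π χ = 0 → classInner (r i) χ = 0)
    {χ : G → ℂ} (hχ : IsIrrCharacter G χ) (h0 : classInner π χ ≠ 0) : ∃ y : Fin k → ℂ, ∑ i, y i • r i = χ := by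
  classical
  have := finite_irr (G := G)
  have := Fintype.ofFinite (IrrCharacter G)
  let S : Finset (IrrCharacter G) := Finset.univ.filter fun ψ => mu hπ ψ ≠ 0
  have h1 : S.card ≤ k := by
    have h2 : ∑ ψ : IrrCharacter G, mu hπ ψ * mu hπ ψ = k := by exact_mod_cast (inner_sum_mu hπ hπ).symm.trans hk
    have h3 : (S.card : ℤ) ≤ ∑ ψ : IrrCharacter G, mu hπ ψ * mu hπ ψ := by
      rw [Finset.card_filter]
      push_cast
      refine Finset.sum_le_sum fun ψ _ => ?_
      split_ifs with h4
      · exact mul_self_pos.2 h4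
      · exact mul_self_nonneg _
    omega
  let W : Submodule ℂ (G → ℂ) := Submodule.span ℂ (S.image fun ψ : IrrCharacter G => (ψ : G → ℂ))
  have hW : ∀ ψ : IrrCharacter G, classInner π ψ ≠ 0 → (ψ : G → ℂ) ∈ W := fun ψ hψ =>
    Submodule.subset_span (Finset.mem_coe.2 (Finset.mem_image_of_mem _ (Finset.mem_filter.2
      ⟨Finset.mem_univ _, fun h => hψ (by rw [inner_mu hπ, h, Int.cast_zero])⟩)))
  have h2 : Module.finrank ℂ W ≤ k := (finrank_span_finset_le_card _).trans (Finset.card_image_le.trans h1)
  have h3 : Submodule.span ℂ (Set.range r) ≤ W := by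
    rw [Submodule.span_le]
    rintro _ ⟨i, rfl⟩
    rw [SetLike.mem_coe, classFunction_eq_sum (hc i)]
    refine W.sum_mem fun ψ _ => ?_
    by_cases h : classInner π ψ = 0
    · rw [hs i _ ψ.2 h, zero_smul]
      exact W.zero_mem
    · exact W.smul_mem _ (hW ψ h)
  have h4 : LinearIndependent ℂ r := by
    rw [Fintype.linearIndependent_iff]
    intro c hc' j
    have h5 := congrArg (fun f => classInner f (r j)) hc'
    simpa only [classInner_sum_left, classInner_smul_left, hon, mul_ite, mul_one, mul_zero, Finset.sum_ite_eq',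
      Finset.mem_univ, if_true, classInner_zero_left] using h5
  have h5 := Submodule.eq_of_le_of_finrank_le h3 (by rw [finrank_span_eq_card h4, Fintype.card_fin]; exact h2)
  have h6 := hW ⟨χ, hχ⟩ h0
  rw [← h5] at h6
  exact (Submodule.mem_span_range_iff_exists_fun ℂ).1 h6

variable {D : Dat} {T : TD G D}

theorem ty_coprime (g : G) {m : ℕ} (h : m.Coprime (orderOf g)) : T.ty (g ^ m) = T.ty g := by
  have h1 := T.pow g 1
  rw [pow_one, Dat.pwf, Nat.gcd_one_left] at h1
  rw [T.pow, Dat.pwf, ← T.ord, h, ← h1]

/-- a character which is a function of the type has integral values -/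
theorem int_of_ty [Finite G] {χ : G → ℂ} (hχ : IsCharacter G χ) (h : ∀ g g', T.ty g = T.ty g' → χ g = χ g') (g : G) :
    ∃ z : ℤ, χ g = z := by
  have h1 := GaloisBasic.isIntegral_apply hχ g
  obtain ⟨q, hq⟩ := GaloisBasic.exists_rat_of_forall_ringEquiv (z := χ g) h1.tower_top fun σ => by
    obtain ⟨m, hm, hσ⟩ := GaloisBasic.exists_pow_of_ringEquiv (G := G) σ
    rw [hσ χ hχ]
    exact h _ _ (ty_coprime g (hm.coprime_dvd_right (orderOf_dvd_natCard g)))
  rw [hq] at h1
  have h2 : IsIntegral ℤ q := (isIntegral_algebraMap_iff (algebraMap ℚ ℂ).injective).1 h1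
  obtain ⟨z, hz⟩ := IsIntegrallyClosed.isIntegral_iff.1 h2
  exact ⟨z, by rw [hq, ← hz]; simp⟩

/-- the check: the rows are orthonormal, `cs` writes multiples of them with the counts, `ds` is a dual family of
combinations of columns -/
noncomputable def okSpan (D : Dat) (p : List ℤ) (Ns rows : List (List ℤ)) (cs : List (ℤ × List (ℤ × ℕ)))
    (ds : List (List (ℤ × ℕ))) : Bool :=
  D.cntL.length == D.n && decide (ip D p p = D.N * rows.length) && okON D rows (List.range rows.length) &&
    allL (fun i => (ntd cs (0, []) i).1 != 0 &&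
      allL (fun t => decide ((ntd cs (0, []) i).1 * nth (ntd rows [] i) t =
        nth (comb (p :: p.map (fun _ => nth p 0) :: Ns) (ntd cs (0, []) i).2) t) && decide (t < p.length))
        (List.range D.n) &&
      allL (fun q => decide (q.2 < D.n)) (ntd ds [] i) &&
      allL (fun j => decide (((ntd ds [] i).map fun q => q.1 * nth (ntd rows [] j) q.2).sum = if i = j then 1 else 0))
        (List.range rows.length)) (List.range rows.length)

theorem nth_map_const (p : List ℤ) (c : ℤ) {t : ℕ} (h : t < p.length) : nth (p.map fun _ => c) t = c := by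
  induction p generalizing t with
  | nil => cases h
  | cons a p ih => cases t with
    | zero => rfl
    | succ t => exact ih (Nat.lt_of_succ_lt_succ h)

theorem Orb.virt [Finite G] {p : List ℤ} {Ns : List (List ℤ)} (h : Orb T p Ns) : Virt T (nth p) := by
  obtain ⟨X, _, _, h1, -⟩ := h
  have h2 := isGeneralizedCharacter_of_isCharacter (S0157.isCharacter_fixedBy (G := G) X)
  simp only [Virt, ← h1, Int.cast_natCast]
  exact h2

theorem virt_span [Finite G] (hm : T.Mass) (h1 : T.ty 1 = 0) (hI : Use.Inh T) {p : List ℤ} {Ns rows : List (List ℤ)}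
    (hO : Orb T p Ns) {cs : List (ℤ × List (ℤ × ℕ))} {ds : List (List (ℤ × ℕ))}
    (h : okSpan D p Ns rows cs ds = true) : ∀ r ∈ rows, Virt T (nth r) := by
  classical
  have := Fintype.ofFinite G
  simp only [okSpan, Bool.and_eq_true, beq_iff_eq, decide_eq_true_eq] at h
  obtain ⟨⟨⟨hl, hp⟩, hon⟩, hA⟩ := h
  have hv := hO.virt
  obtain ⟨X, _, _, hX, hN⟩ := hO
  have hrow : ∀ i : Fin rows.length, _ := fun i => allL_spec hA i (List.mem_range.2 i.2)
  simp only [Bool.and_eq_true, bne_iff_ne] at hrow
  have hcl : ∀ v : List ℤ, IsClassFunction G (fn T v) := fun v g c => by simp only [fn, T.conj]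
  have hON : ∀ i j : Fin rows.length, classInner (fn T (ntd rows [] i)) (fn T (ntd rows [] j)) =
      if i = j then 1 else 0 := fun i j => by
    have hi : (i : ℕ) < (List.range rows.length).length := by rw [List.length_range]; exact i.2
    have hj : (j : ℕ) < (List.range rows.length).length := by rw [List.length_range]; exact j.2
    have h2 := of_decide_eq_true (allL_spec (allL_spec hon i (List.mem_range.2 hi)) j (List.mem_range.2 hj))
    rw [ntd_eq _ _ hi, ntd_eq _ _ hj, List.getElem_range, List.getElem_range] at h2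
    have h3 := inner_of_ip (T := T) hm hl (z := if i = j then 1 else 0) (h2.trans (by simp [Fin.ext_iff]))
    rw [h3]
    split_ifs <;> simp
  have hS : ∀ (i : Fin rows.length) χ, IsIrrCharacter G χ → classInner (fn T p) χ = 0 →
      classInner (fn T (ntd rows [] i)) χ = 0 := fun i χ hχ h0 => by
    have hπ : fn T p = fun g : G => (Nat.card (MulAction.fixedBy X g) : ℂ) := funext fun g => by
      simp only [fn, ← hX, Int.cast_natCast]
    have h2 := allL_spec (hrow i).1.1.2
    simp only [Bool.and_eq_true, decide_eq_true_eq, List.mem_range] at h2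
    have h3 : ∀ v ∈ p :: p.map (fun _ => nth p 0) :: Ns, classInner (fn T v) χ = 0 := fun v hv => by
      rcases List.mem_cons.1 hv with rfl | hv
      · exact h0
      rcases List.mem_cons.1 hv with rfl | hv
      · have h4 := tw_zero hχ (hπ ▸ h0) fun _ _ => 1
        refine (funext fun g => ?_ : _ = fn T _) ▸ h4
        rw [fn, nth_map_const _ _ (h2 _ (T.lt g)).2, ← h1, ← hX]
        simp
      · obtain ⟨A, hA⟩ := hN v hv
        have h4 := tw_zero hχ (hπ ▸ h0) fun x y => (A x y : ℂ)
        refine (funext fun g => ?_ : _ = fn T _) ▸ h4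
        rw [fn, ← hA]
        push_cast
        rfl
    have h4 : ∀ c, classInner (fn T (comb (p :: p.map (fun _ => nth p 0) :: Ns) c)) χ = 0 := fun c => by
      induction c with
      | nil =>
        change classInner (fn T []) χ = 0
        rw [(funext fun g => by simp [fn, nth_nil] : fn T [] = 0), classInner_zero_left]
      | cons q c ih =>
        have h5 : fn T (comb (p :: p.map (fun _ => nth p 0) :: Ns) (q :: c)) =
            (q.1 : ℂ) • fn T (ntd (p :: p.map (fun _ => nth p 0) :: Ns) [] q.2) +
              fn T (comb (p :: p.map (fun _ => nth p 0) :: Ns) c) := funext fun g => by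
          simp only [fn, nth_comb_cons, Pi.add_apply, Pi.smul_apply, smul_eq_mul, Int.cast_add, Int.cast_mul]
        rw [h5, classInner_add_left, classInner_smul_left, ih, add_zero]
        rcases ntd_mem (p :: p.map (fun _ => nth p 0) :: Ns) [] q.2 with h6 | h6
        · rw [h6, (funext fun g => by simp [fn, nth_nil] : fn T [] = 0), classInner_zero_left, mul_zero]
        · rw [h3 _ h6, mul_zero]
    have h5 := h4 (ntd cs (0, []) i).2
    have h6 : fn T (comb (p :: p.map (fun _ => nth p 0) :: Ns) (ntd cs (0, []) i).2) =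
        ((ntd cs (0, []) i).1 : ℂ) • fn T (ntd rows [] i) := funext fun g => by
      simp only [fn, ← (h2 _ (T.lt g)).1, Pi.smul_apply, smul_eq_mul, Int.cast_mul]
    rw [h6, classInner_smul_left] at h5
    exact (mul_eq_zero.1 h5).resolve_left (Int.cast_ne_zero.2 (hrow i).1.1.1)
  intro r hr
  obtain ⟨i, hi, rfl⟩ := List.getElem_of_mem hr
  rw [← ntd_eq rows [] hi]
  refine isGeneralizedCharacter_of_int (hcl _) fun χ hχ => ?_
  by_cases h0 : classInner (fn T p) χ = 0
  · exact ⟨0, (hS ⟨i, hi⟩ χ hχ h0).trans Int.cast_zero.symm⟩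
  obtain ⟨y, hy⟩ := mem_span (k := rows.length) hv ((inner_of_ip hm hl hp).trans (Int.cast_natCast _))
    (fun j => fn T (ntd rows [] j)) (fun j => hcl _) hON hS hχ h0
  have h2 : ∀ g, χ g = ∑ j : Fin rows.length, y j * (nth (ntd rows [] j) (T.ty g) : ℂ) := fun g => by
    rw [← hy]
    simp only [Finset.sum_apply, Pi.smul_apply, smul_eq_mul, fn]
  have h3 := int_of_ty (T := T) (isIrr_isCharacter hχ) fun g g' hg => by rw [h2, h2, hg]
  have h4 : ∀ d : List (ℤ × ℕ), (∀ q ∈ d, q.2 < D.n) → ∃ z : ℤ,
      ∑ j : Fin rows.length, y j * (((d.map fun q => q.1 * nth (ntd rows [] j) q.2).sum : ℤ) : ℂ) = z := fun d hd => by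
    induction d with
    | nil => exact ⟨0, by simp⟩
    | cons q d ih =>
      obtain ⟨z, hz⟩ := ih fun q hq => hd q (List.mem_cons_of_mem _ hq)
      obtain ⟨g, hg⟩ := hI _ (hd q List.mem_cons_self)
      obtain ⟨w, hw⟩ := h3 g
      refine ⟨q.1 * w + z, ?_⟩
      rw [Int.cast_add, Int.cast_mul, ← hz, ← hw, h2, hg, Finset.mul_sum, ← Finset.sum_add_distrib]
      refine Finset.sum_congr rfl fun j _ => ?_
      simp only [List.map_cons, List.sum_cons, Int.cast_add, Int.cast_mul]
      ring
  obtain ⟨z, hz⟩ := h4 (ntd ds [] i) fun q hq => of_decide_eq_true (allL_spec (hrow ⟨i, hi⟩).1.2 q hq)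
  have h5 : ∀ j : Fin rows.length, ((ntd ds [] i).map fun q => q.1 * nth (ntd rows [] j) q.2).sum =
      if (⟨i, hi⟩ : Fin rows.length) = j then 1 else 0 := fun j => by
    rw [of_decide_eq_true (allL_spec (hrow ⟨i, hi⟩).2 j (List.mem_range.2 j.2))]
    simp only [Fin.ext_iff]
  simp only [h5, apply_ite ((↑) : ℤ → ℂ), Int.cast_one, Int.cast_zero, mul_ite, mul_one, mul_zero,
    Finset.sum_ite_eq, Finset.mem_univ, if_true] at hz
  refine ⟨z, ?_⟩
  change classInner (fn T (ntd rows [] i)) χ = z
  have h6 : ∀ j : Fin rows.length, classInner (fn T (ntd rows [] i)) (fn T (ntd rows [] j)) = _ := hON ⟨i, hi⟩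
  rw [← hy, classInner_sum_right]
  simp only [classInner_smul_right, h6, mul_ite, mul_one, mul_zero, Finset.sum_ite_eq, Finset.mem_univ, if_true]
  rw [hz, map_intCast]

end Cfsg.Agent.TAB.F42
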