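import Cfsg.Agent.TAB.F42.Dat
import Cfsg.Agent.TAB.F42.Span
import Cfsg.Agent.TAB.Sm1.Tool
import Cfsg.Agent.TAB.Sm2.Fin

/-!
# The table of `F₄(2)` : rows and certificates (helper15, TAB)

* `rA` : the 89 rational irreducible characters, `rB` : the sums of the three pairs;
* `rows_of`, `tab_of` : the table from `Hyp T`.
-/

set_option autoImplicit false
set_option maxRecDepth 100000

namespace Cfsg.Agent.TAB.F42

open Cfsg Cfsg.Agent.TAB.Eng Cfsg.Agent.TAB.Use Cfsg.Agent.TAB.Co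

/-- degree `1` -/
def r0 : List ℤ := [1, 1, 1, 1, 1, 1, 1, 1, 1, 1, 1, 1, 1, 1, 1, 1, 1, 1, 1, 1, 1, 1, 1, 1, 1, 1, 1, 1, 1, 1, 1, 1, 1, 1, 1, 1, 1, 1, 1, 1, 1, 1, 1,
    1, 1, 1, 1, 1, 1, 1, 1, 1, 1, 1, 1, 1, 1, 1, 1, 1, 1, 1, 1, 1, 1, 1, 1, 1, 1, 1, 1, 1, 1, 1, 1, 1, 1, 1, 1, 1, 1, 1, 1, 1, 1, 1, 1, 1, 1, 1, 1, 1]

/-- degree `833` -/
def r1 : List ℤ := [833, -63, -63, 65, 1, 14, 14, -4, 25, 25, -7, -7, 5, -27, -7, -7, 1, -3, -3, 9, 5, -3, 1, 8, -6, -6, 6, 6, 0, 0, 2, 2, -2, -2, 4,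
    0, 0, -7, 1, -3, 1, 1, -3, 5, 1, 1, 1, 1, 2, 2, 2, 2, 0, -2, -2, -2, -2, 0, -4, -4, 0, 2, 2, 2, 2, 0, 0, 0, 0, 1, 0, 0, -1, -1, -1, 1, 1, 0, 0, 0,
    -2, 0, 0, 0, 0, -2, -2, 0, 0, 0, -1, -1]

/-- degree `1105` -/
def r2 : List ℤ := [1105, 209, -47, 81, 17, 34, 7, -2, 9, 25, 41, -7, -11, 21, 9, -7, 1, 13, -3, 9, 5, -3, 1, 5, 14, -5, 10, -1, 2, -2, 6, 3, 2, -1,
    2, 6, -1, 5, -3, 5, 1, -3, 1, 1, 5, -3, 1, 1, 1, 1, 3, -1, 1, -2, 3, 0, -2, 0, 4, 1, -3, 2, -1, 0, 2, 0, 1, 0, 0, 0, 2, -1, 2, -1, 1, -1, -1, 0,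
    1, -1, 1, -1, 0, -1, -2, 0, 1, -1, 0, -1, 0, -1]

/-- degree `1105` -/
def r3 : List ℤ := [1105, -47, 209, 81, 17, 7, 34, -2, 25, 9, -7, 41, -11, 21, -7, 9, 1, -3, 13, 9, 5, -3, 1, 5, -5, 14, -1, 10, -2, 2, 3, 6, -1, 2,
    2, -1, 6, 5, -3, 1, -3, 1, 5, 1, -3, 5, 1, 1, 1, 1, -1, 3, 1, 3, -2, -2, 0, -3, 1, 4, 0, -1, 2, 2, 0, 1, 0, 0, 0, 0, -1, 2, -1, 2, 1, -1, -1, 0,
    -1, 1, 1, -1, -1, 0, -1, 1, 0, -2, -1, 0, -1, 0]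

/-- degree `1326` -/
def r4 : List ℤ := [1326, 174, 174, 46, -18, 21, 21, 3, -10, -10, 22, 22, 26, -6, -10, -10, 14, 2, 2, 6, -6, 2, -2, 1, 9, 9, -3, -3, 3, 3, 1, 1, -3,
    -3, 3, 3, 3, -2, 6, 2, -2, -2, 2, 2, -2, -2, -2, 2, 0, 0, -1, -1, 1, 5, 5, -1, -1, 3, -1, -1, 3, 1, 1, -1, -1, -1, -1, 3, -1, 0, -1, -1, 1, 1, 0,
    -2, 2, 0, 0, 0, -1, 1, 0, 0, -1, 1, 1, -1, 1, 1, -1, -1]

/-- degree `1377` -/
def r5 : List ℤ := [1377, 225, 225, 97, 33, 27, 27, 0, 9, 9, 41, 41, 37, 5, 9, 9, 1, 13, 13, 9, 5, -3, 1, 2, 15, 15, 3, 3, 0, 0, 7, 7, 3, 3, 0, 5, 5,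
    1, 9, 1, 5, 5, 1, -3, 1, 1, 1, 1, 0, 0, 0, 0, 2, 3, 3, 0, 0, 5, 1, 1, 5, -1, -1, 0, 0, 1, 1, 0, 0, -1, 1, 1, 2, 2, -1, 1, 1, 0, 0, 0, 0, 2, -1,
    -1, 1, -1, -1, 1, -1, -1, 0, 0]

/-- degree `21658` -/
def r6 : List ℤ := [21658, -742, -742, 410, -38, 49, 49, 4, 18, 18, -14, -14, 30, 62, 18, 18, -6, -10, -10, 18, -2, 6, -6, 8, -19, -19, -7, -7, -4,
    -4, 5, 5, 1, 1, 4, 0, 0, 10, 2, -2, 2, 2, -2, 6, -6, -6, -2, 2, 1, 1, -2, -2, 0, -3, -3, 0, 0, -1, 3, 3, -1, 1, 1, 0, 0, -1, -1, 0, 0, 0, 0, 0,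
    -1, -1, 0, -2, 2, 0, -1, -1, 2, 0, 0, 0, 1, -1, -1, 1, 0, 0, 1, 1]

/-- degree `22932` -/
def r7 : List ℤ := [22932, 1428, 1428, 404, 148, 63, 63, 9, 84, 84, 84, 84, 84, 84, 20, 20, 20, 20, 20, 4, 20, 4, 4, 7, 15, 15, 15, 15, -3, -3, -1,
    -1, 7, 7, 1, 0, 0, 4, 4, 4, 4, 4, 4, 4, 4, 4, 0, 0, 0, 0, 3, 3, -1, 3, 3, 3, 3, 3, 3, 3, 3, 3, 3, -1, -1, -1, -1, 1, 1, 0, 0, 0, -2, -2, 0, 0, 0,
    -1, 0, 0, -1, -1, 0, 0, 1, 1, 1, 1, 0, 0, 0, 0]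

/-- degree `23205` -/
def r8 : List ℤ := [23205, 1701, -603, 421, 37, 84, 57, 12, 69, -43, 133, -43, -51, -51, 5, -11, -11, 13, -3, 21, -3, -3, 5, 5, 36, -15, -12, 9, 0, 0,
    4, 1, 4, 1, 4, 7, 0, -7, -7, 1, 1, -3, -3, 1, -7, 1, 1, 1, 0, 0, -3, 1, 1, -4, 9, 6, 2, 0, 0, -3, -3, -4, 1, 2, -2, 0, 1, 0, 0, 0, -1, 0, 2, -1,
    -1, -1, -1, 0, 0, 0, -1, -1, 1, 0, 0, 0, 1, 1, -1, 0, 0, 1]

/-- degree `23205` -/
def r9 : List ℤ := [23205, -603, 1701, 421, 37, 57, 84, 12, -43, 69, -43, 133, -51, -51, -11, 5, -11, -3, 13, 21, -3, -3, 5, 5, -15, 36, 9, -12, 0, 0,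
    1, 4, 1, 4, 4, 0, 7, -7, -7, -3, -3, 1, 1, 1, 1, -7, 1, 1, 0, 0, 1, -3, 1, 9, -4, 2, 6, -3, -3, 0, 0, 1, -4, -2, 2, 1, 0, 0, 0, 0, 0, -1, -1, 2,
    -1, -1, -1, 0, 0, 0, -1, -1, 0, 1, 1, 1, 0, 0, 0, -1, 1, 0]

/-- degree `44200` -/
def r10 : List ℤ := [44200, 3240, 680, 680, 168, 190, -35, 1, 104, 8, 232, 8, 40, 40, 40, 8, 8, 40, 8, 8, 8, 8, 8, 0, 30, 5, 14, -3, 9, 5, 14, 5, 6,
    -3, -3, 9, -5, 0, 0, 8, 8, 0, 0, 0, 0, 0, 0, 0, 1, -2, 0, 0, 0, 2, -7, 5, -1, -2, -2, 1, 1, 2, 1, 1, -1, 2, 1, -1, -1, 0, 1, -1, 0, 0, 0, 0, 0, 0,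
    -1, 0, 0, 0, 0, 1, 0, 0, -1, -1, 1, 1, 0, 0]

/-- degree `44200` -/
def r11 : List ℤ := [44200, 680, 3240, 680, 168, -35, 190, 1, 8, 104, 8, 232, 40, 40, 8, 40, 8, 8, 40, 8, 8, 8, 8, 0, 5, 30, -3, 14, 5, 9, 5, 14, -3,
    6, -3, -5, 9, 0, 0, 0, 0, 8, 8, 0, 0, 0, 0, 0, -2, 1, 0, 0, 0, -7, 2, -1, 5, 1, 1, -2, -2, 1, 2, -1, 1, 1, 2, -1, -1, 0, -1, 1, 0, 0, 0, 0, 0, 0,
    0, -1, 0, 0, 1, 0, -1, -1, 0, 0, 1, 1, 0, 0]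

/-- degree `63700` -/
def r12 : List ℤ := [63700, 980, 980, -300, -44, 70, 70, -20, 164, 164, -28, -28, 20, 20, 4, 4, -12, 4, 4, -12, -12, -12, 20, 0, -10, -10, -10, -10,
    8, 8, 6, 6, -2, -2, 4, 0, 0, -4, -4, 0, 0, 0, 0, -4, 4, 4, 4, -4, 1, 1, 0, 0, 0, 2, 2, 2, 2, 2, 2, 2, 2, 2, 2, -2, -2, -2, -2, 0, 0, 0, 0, 0, 0,
    0, 0, 0, 0, 1, -1, -1, 0, 0, 0, 0, 0, 0, 0, 0, 0, 0, 0, 0]

/-- degree `99450` -/
def r13 : List ℤ := [99450, 5370, -2310, 890, -70, 225, 90, -18, -78, 18, 274, -14, -130, 30, -14, 18, -6, 22, -10, 18, -2, 6, -6, 0, 45, -30, 9, -6,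
    6, -6, 5, 2, -7, 2, 2, 8, 1, 2, -6, 6, -6, 2, -2, -2, 2, 2, -2, 2, 0, 0, 0, 0, 0, -3, 6, -6, 0, 3, -1, 2, -6, 1, -2, -2, 0, -1, -2, 0, 0, 0, 0, 1,
    0, 0, 0, 2, -2, 0, 0, 0, 0, 0, -1, 1, 1, -1, 0, 0, 0, 1, 0, 0]

/-- degree `99450` -/
def r14 : List ℤ := [99450, -2310, 5370, 890, -70, 90, 225, -18, 18, -78, -14, 274, -130, 30, 18, -14, -6, -10, 22, 18, -2, 6, -6, 0, -30, 45, -6, 9,
    -6, 6, 2, 5, 2, -7, 2, 1, 8, 2, -6, -2, 2, -6, 6, -2, 2, 2, -2, 2, 0, 0, 0, 0, 0, 6, -3, 0, -6, -6, 2, -1, 3, -2, 1, 0, -2, -2, -1, 0, 0, 0, 1, 0,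
    0, 0, 0, 2, -2, 0, 0, 0, 0, 0, 1, -1, 0, 0, -1, 1, 1, 0, 0, 0]

/-- degree `162435` -/
def r15 : List ℤ := [162435, 3843, -1533, 643, -189, 21, 21, 3, 59, 267, 91, -21, -25, 135, -5, 43, -13, -1, -17, 11, -9, -1, 3, 10, 21, 9, 21, -3,
    -9, 15, -11, 1, -3, -3, 3, 0, 0, 7, -1, -1, -5, 7, -5, 3, 7, -1, -1, -1, 0, 0, 2, -2, -2, -3, 5, 5, -3, -3, 5, -1, 3, -3, 1, 1, 1, 1, -1, -1, -1,
    0, 0, 0, 1, 1, -1, 1, 1, 0, 0, 0, 0, 0, 0, 0, 1, 1, 1, -1, 0, 0, -1, 1]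

/-- degree `162435` -/
def r16 : List ℤ := [162435, -1533, 3843, 643, -189, 21, 21, 3, 267, 59, -21, 91, -25, 135, 43, -5, -13, -17, -1, 11, -9, -1, 3, 10, 9, 21, -3, 21,
    15, -9, 1, -11, -3, -3, 3, 0, 0, 7, -1, -5, 7, -5, -1, 3, -1, 7, -1, -1, 0, 0, -2, 2, -2, 5, -3, -3, 5, 3, -1, 5, -3, 1, -3, 1, 1, -1, 1, -1, -1,
    0, 0, 0, 1, 1, -1, 1, 1, 0, 0, 0, 0, 0, 0, 0, -1, 1, 1, 1, 0, 0, 1, -1]

/-- degree `216580` -/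
def r17 : List ℤ := [216580, -252, -3836, 516, 4, 112, 49, -14, 308, -108, -140, 84, 4, -124, -44, -12, 4, 20, -12, -12, 4, -12, 20, 5, 0, -11, 16, 9,
    18, -2, 0, -3, -8, 1, -2, 0, 0, 4, 4, -8, 8, 0, 0, 4, -4, -4, 0, 0, 1, -2, -1, 3, 1, 0, 5, 2, 0, -4, 4, -5, -1, 0, 1, -2, 0, 0, -1, 0, 0, 0, 0, 0,
    -1, 2, 0, 0, 0, 0, 1, 0, 1, -1, 0, 0, 0, 0, -1, 1, 0, 0, -1, 0]

/-- degree `216580` -/
def r18 : List ℤ := [216580, -3836, -252, 516, 4, 49, 112, -14, -108, 308, 84, -140, 4, -124, -12, -44, 4, -12, 20, -12, 4, -12, 20, 5, -11, 0, 9, 16,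
    -2, 18, -3, 0, 1, -8, -2, 0, 0, 4, 4, 0, 0, 8, -8, 4, -4, -4, 0, 0, -2, 1, 3, -1, 1, 5, 0, 0, 2, -1, -5, 4, -4, 1, 0, 0, -2, -1, 0, 0, 0, 0, 0, 0,
    2, -1, 0, 0, 0, 0, 0, 1, 1, -1, 0, 0, 1, -1, 0, 0, 0, 0, 0, -1]

/-- degree `249900` -/
def r19 : List ℤ := [249900, 7980, 7980, 1580, 172, 105, 105, -39, -68, -68, 252, 252, 260, -60, -4, -4, -20, 20, 20, 12, 4, 4, -4, 0, 45, 45, -15,
    -15, -3, -3, 5, 5, 1, 1, 1, 0, 0, -4, 12, -4, 4, 4, -4, 4, -4, -4, 0, 0, 0, 0, 0, 0, 0, 1, 1, -5, -5, 3, -1, -1, 3, -3, -3, -1, -1, -1, -1, -3, 1,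
    1, 0, 0, 0, 0, 0, 0, 0, 0, 0, 0, 0, 0, 0, 0, -1, 1, 1, -1, 0, 0, 0, 0]

/-- degree `269892` -/
def r20 : List ℤ := [269892, -4284, -4284, 2116, -60, 189, 189, 0, 180, 180, -140, -140, 76, -244, -12, -12, 4, -4, -4, 36, 12, 12, -12, 17, -39, -39,
    21, 21, 0, 0, 1, 1, -3, -3, 0, 0, 0, -12, 4, -4, 4, 4, -4, -4, 4, 4, 0, 0, 0, 0, 1, 1, 1, -3, -3, 0, 0, -1, -5, -5, -1, 1, 1, 0, 0, -1, -1, 0, 0,
    -1, 0, 0, -1, -1, 0, 0, 0, 0, 0, 0, 1, 1, 0, 0, -1, 1, 1, -1, 0, 0, 1, 1]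

/-- degree `270725` -/
def r21 : List ℤ := [270725, 1925, 1925, -635, 133, 140, 140, -31, 37, 37, -91, -91, 5, 5, 37, 37, 69, -27, -27, -11, 5, -11, -11, 0, 20, 20, -4, -4,
    17, 17, 4, 4, 4, 4, 1, 0, 0, 5, 5, -3, -3, -3, -3, 5, 5, 5, 1, 1, -1, -1, 0, 0, 0, 4, 4, 1, 1, -4, -4, -4, -4, -4, -4, 1, 1, 0, 0, 1, 1, 0, 0, 0,
    0, 0, 1, 1, 1, 0, -1, -1, 0, 0, 0, 0, 0, 0, 0, 0, 0, 0, 0, 0]

/-- degree `322218` -/
def r22 : List ℤ := [322218, 810, 810, 1962, 234, 0, 0, 0, 162, 162, -126, -126, -18, 270, -30, -30, 10, 6, 6, 18, 14, 6, -6, 18, 0, 0, 0, 0, 0, 0, 0,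
    0, 0, 0, 0, -6, -6, 10, 2, 6, -6, -6, 6, 6, -6, -6, 2, -2, 0, 0, 0, 0, 2, 0, 0, 0, 0, 0, 0, 0, 0, 0, 0, 0, 0, 0, 0, 0, 0, 0, -2, -2, 0, 0, 0, 2,
    -2, 0, 0, 0, 0, 2, 0, 0, 0, 0, 0, 0, 0, 0, 0, 0]

/-- degree `348075` -/
def r23 : List ℤ := [348075, 12075, 4395, 1195, -149, 315, -90, 18, -45, 51, 371, 83, 175, 15, -45, -13, -21, 23, -9, 3, -17, -9, -5, 0, 15, 30, 3, 6,
    6, -6, 7, -2, -5, -2, -2, 7, 0, 3, 11, 3, -9, -1, -5, -1, 3, 3, -1, -1, 0, 0, 0, 0, 0, 3, -6, 0, 6, -3, 1, -2, 6, -1, 2, 0, 2, -3, 2, 0, 0, 0, -1,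
    0, 0, 0, 1, -1, -1, 0, 0, 0, 0, 0, 1, 0, 1, -1, 0, 0, -1, 0, 0, 0]

/-- degree `348075` -/
def r24 : List ℤ := [348075, 4395, 12075, 1195, -149, -90, 315, 18, 51, -45, 83, 371, 175, 15, -13, -45, -21, -9, 23, 3, -17, -9, -5, 0, 30, 15, 6, 3,
    -6, 6, -2, 7, -2, -5, -2, 0, 7, 3, 11, -5, -1, -9, 3, -1, 3, 3, -1, -1, 0, 0, 0, 0, 0, -6, 3, 6, 0, 6, -2, 1, -3, 2, -1, 2, 0, 2, -3, 0, 0, 0, 0,
    -1, 0, 0, 1, -1, -1, 0, 0, 0, 0, 0, 0, 1, 0, 0, -1, 1, 0, -1, 0, 0]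

/-- degree `358020` -/
def r25 : List ℤ := [358020, 10116, -3708, 644, 132, 216, -27, 0, 180, -108, 244, 84, -124, 4, 84, -12, 4, 20, -12, -12, 4, -12, 20, -5, -24, -15, 24,
    -3, 0, 0, 8, -7, 0, -3, 0, -2, 5, 4, 4, 8, -8, 0, 0, 4, -4, -4, 0, 0, 0, 0, -3, 1, -1, 0, -3, 0, 0, 4, -4, -1, -5, 0, 1, 0, 0, 0, -1, 0, 0, 0, 2,
    1, -2, 1, 0, 0, 0, 0, 0, 0, -1, 1, 1, -1, 0, 0, 1, -1, 0, -1, 0, 1]

/-- degree `358020` -/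
def r26 : List ℤ := [358020, -3708, 10116, 644, 132, -27, 216, 0, -108, 180, 84, 244, -124, 4, -12, 84, 4, -12, 20, -12, 4, -12, 20, -5, -15, -24, -3,
    24, 0, 0, -7, 8, -3, 0, 0, 5, -2, 4, 4, 0, 0, -8, 8, 4, -4, -4, 0, 0, 0, 0, 1, -3, -1, -3, 0, 0, 0, -5, -1, -4, 4, 1, 0, 0, 0, -1, 0, 0, 0, 0, 1,
    2, 1, -2, 0, 0, 0, 0, 0, 0, -1, 1, -1, 1, -1, 1, 0, 0, -1, 0, 1, 0]

/-- degree `519792` -/
def r27 : List ℤ := [519792, 3696, 3696, -400, 368, -84, -84, 42, 112, 112, 112, 112, 0, 0, 48, 48, 48, 0, 0, 16, 0, 32, -16, -8, -36, -36, 12, 12, 6,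
    6, -4, -4, -4, -4, 2, 0, 0, 0, 0, 0, 0, 0, 0, 0, 0, 0, 0, 0, 0, 0, -4, -4, 0, 4, 4, 4, 4, 0, 0, 0, 0, 4, 4, 0, 0, 0, 0, -2, 2, 0, 0, 0, 1, 1, 0,
    0, 0, 0, 0, 0, 0, 0, 0, 0, 0, 0, 0, 0, 0, 0, -1, -1]

/-- degree `541450` -/
def r28 : List ℤ := [541450, 17290, -630, 2570, 330, 280, -35, -8, -62, 162, 546, -126, -50, 110, 66, -30, 10, 38, 6, 18, 14, 6, -6, 0, 40, -15, 24,
    -11, -8, 0, 8, -7, 0, -3, 0, 0, 0, 2, -6, -2, 2, -6, 6, -2, 2, 2, 2, -2, -2, 1, 0, 0, 0, 0, 1, -8, 0, -4, 4, -5, -1, 0, -3, 0, 0, 0, -1, 0, 0, 0,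
    0, 0, 0, 0, 0, -2, 2, 0, 0, 1, 0, 0, 0, 0, 0, 0, -1, 1, 0, 0, 0, 0]

/-- degree `541450` -/
def r29 : List ℤ := [541450, 3850, -5110, 10, -118, -35, -35, 46, 362, 154, 42, 154, -30, -30, -86, -6, -6, 34, -14, -6, -14, 18, 10, 0, -35, 5, -19,
    13, -2, 2, 13, -11, 5, 5, 2, 0, 0, 6, 6, -2, -2, 2, 2, -2, 6, -2, -2, -2, 1, 1, 0, 0, 0, 1, 5, 2, -8, -3, -3, -3, -3, 1, -3, -2, 0, 1, 1, 0, 0, 0,
    0, 0, 0, 0, 0, 0, 0, 0, -1, 1, 0, 0, 0, 0, -1, -1, 1, 1, 0, 0, 0, 0]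

/-- degree `541450` -/
def r30 : List ℤ := [541450, -630, 17290, 2570, 330, -35, 280, -8, 162, -62, -126, 546, -50, 110, -30, 66, 10, 6, 38, 18, 14, 6, -6, 0, -15, 40, -11,
    24, 0, -8, -7, 8, -3, 0, 0, 0, 0, 2, -6, 6, -6, 2, -2, -2, 2, 2, 2, -2, 1, -2, 0, 0, 0, 1, 0, 0, -8, -1, -5, 4, -4, -3, 0, 0, 0, -1, 0, 0, 0, 0,
    0, 0, 0, 0, 0, -2, 2, 0, 1, 0, 0, 0, 0, 0, 1, -1, 0, 0, 0, 0, 0, 0]

/-- degree `541450` -/
def r31 : List ℤ := [541450, -5110, 3850, 10, -118, -35, -35, 46, 154, 362, 154, 42, -30, -30, -6, -86, -6, -14, 34, -6, -14, 18, 10, 0, 5, -35, 13,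
    -19, 2, -2, -11, 13, 5, 5, 2, 0, 0, 6, 6, 2, 2, -2, -2, -2, -2, 6, -2, -2, 1, 1, 0, 0, 0, 5, 1, -8, 2, -3, -3, -3, -3, -3, 1, 0, -2, 1, 1, 0, 0,
    0, 0, 0, 0, 0, 0, 0, 0, 0, 1, -1, 0, 0, 0, 0, 1, 1, -1, -1, 0, 0, 0, 0]

/-- degree `584766` -/
def r32 : List ℤ := [584766, 12222, 12222, 1854, 510, 0, 0, 27, 6, 6, 294, 294, 234, -54, 70, 70, 30, 18, 18, 6, 10, 2, -2, -9, 0, 0, 0, 0, -9, -9, 0,
    0, 0, 0, 3, 0, 0, -2, 6, -6, 6, 6, -6, 2, -2, -2, 2, -2, 0, 0, -3, -3, -1, 0, 0, -3, -3, 0, 0, 0, 0, 0, 0, 1, 1, 0, 0, 3, -1, 0, 0, 0, 0, 0, 0, 2,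
    -2, 0, 0, 0, 1, -1, 0, 0, 0, 0, 0, 0, 0, 0, 0, 0]

/-- degree `626535` -/
def r33 : List ℤ := [626535, 5607, -8217, 2663, 39, -189, 216, 0, 351, 63, 63, -97, -85, -245, 63, -33, 7, 3, -29, 15, 11, 3, 7, 10, 39, -24, -21, 24,
    0, 0, -1, 8, 3, 0, 0, -7, 0, -9, -1, 3, -9, -1, -5, 3, -1, -1, -1, -1, 0, 0, -2, 2, -2, 3, 0, 0, 0, 1, 5, -4, 4, -1, 0, 0, 0, 1, 0, 0, 0, 0, 1, 0,
    1, 1, 1, -1, -1, 0, 0, 0, 0, 0, -1, 0, 1, -1, 0, 0, 1, 0, 1, -1]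

/-- degree `626535` -/
def r34 : List ℤ := [626535, -8217, 5607, 2663, 39, 216, -189, 0, 63, 351, -97, 63, -85, -245, -33, 63, 7, -29, 3, 15, 11, 3, 7, 10, -24, 39, 24, -21,
    0, 0, 8, -1, 0, 3, 0, 0, -7, -9, -1, -5, -1, -9, 3, 3, -1, -1, -1, -1, 0, 0, 2, -2, -2, 0, 3, 0, 0, 4, -4, 5, 1, 0, -1, 0, 0, 0, 1, 0, 0, 0, 0, 1,
    1, 1, 1, -1, -1, 0, 0, 0, 0, 0, 0, -1, 0, 0, -1, 1, 0, 1, -1, 1]

/-- degree `812175` -/
def r35 : List ℤ := [812175, 19215, -7665, 3215, 79, 105, 105, 15, 39, 55, 455, -105, -205, -45, -25, -41, -1, 43, -37, 7, 3, -5, -1, 0, 45, -15, -15,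
    9, -9, 3, 5, 17, 1, 1, -5, 0, 0, 3, -5, -13, -1, -5, -1, -1, 3, -5, -1, -1, 0, 0, 0, 0, 0, 1, -3, 3, 1, 3, -1, 5, -3, -3, 5, -1, 1, -1, 1, 1, 1,
    0, 0, 0, 0, 0, -1, 1, 1, 0, 0, 0, 0, 0, 0, 0, -1, 1, -1, -1, 0, 0, 0, 0]

/-- degree `812175` -/
def r36 : List ℤ := [812175, -7665, 19215, 3215, 79, 105, 105, 15, 55, 39, -105, 455, -205, -45, -41, -25, -1, -37, 43, 7, 3, -5, -1, 0, -15, 45, 9,
    -15, 3, -9, 17, 5, 1, 1, -5, 0, 0, 3, -5, -1, -5, -1, -13, -1, -5, 3, -1, -1, 0, 0, 0, 0, 0, -3, 1, 1, 3, -3, 5, -1, 3, 5, -3, 1, -1, 1, -1, 1, 1,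
    0, 0, 0, 0, 0, -1, 1, 1, 0, 0, 0, 0, 0, 0, 0, -1, -1, 1, -1, 0, 0, 0, 0]

/-- degree `877149` -/
def r37 : List ℤ := [877149, 14301, 14301, 349, -483, 189, 189, 0, -27, -27, 133, 133, 289, 1, -27, -27, 61, -23, -23, 21, 1, 9, 13, -1, 21, 21, -3,
    -3, 0, 0, -11, -11, -3, -3, 0, 0, 0, -3, 5, 5, -7, -7, 5, -7, -3, -3, 1, 1, 0, 0, 1, 1, -1, 9, 9, 0, 0, 1, 1, 1, 1, 1, 1, 0, 0, 1, 1, 0, 0, 0, 0,
    0, -1, -1, -1, 1, 1, 0, 0, 0, 1, -1, 0, 0, -1, -1, -1, -1, 0, 0, 1, 1]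

/-- degree `877149` -/
def r38 : List ℤ := [877149, -9891, -9891, 4189, 93, 189, 189, 0, 45, 45, -147, -147, 109, 109, -51, -51, -3, -35, -35, 45, 13, -3, 13, -1, -51, -51,
    -3, -3, 0, 0, 13, 13, -3, -3, 0, 0, 0, 5, 5, 1, 1, 1, 1, -11, -3, -3, 1, 1, 0, 0, -1, -1, -1, -3, -3, 0, 0, 1, 1, 1, 1, -3, -3, 0, 0, 1, 1, 0, 0,
    0, 0, 0, -1, -1, 1, 1, 1, 0, 0, 0, -1, -1, 0, 0, 1, 1, 1, 1, 0, 0, -1, -1]

/-- degree `947700` -/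
def r39 : List ℤ := [947700, 14580, 14580, 3060, 756, 0, 0, 0, 324, 324, 132, 132, 180, 180, 36, 36, 20, 36, 36, -12, 20, -12, 20, 0, 0, 0, 0, 0, 0,
    0, 0, 0, 0, 0, 0, -9, -9, -4, -4, 0, 0, 0, 0, -4, 4, 4, -4, 4, 0, 0, 0, 0, 0, 0, 0, 0, 0, 0, 0, 0, 0, 0, 0, 0, 0, 0, 0, 0, 0, 0, -1, -1, 0, 0, 0,
    0, 0, 1, 0, 0, 0, 0, 0, 0, 0, 0, 0, 0, -1, -1, 0, 0]

/-- degree `1082900` -/
def r40 : List ℤ := [1082900, -10220, -10220, 2580, 20, 245, 245, -16, -268, -268, -140, -140, 100, 100, 52, 52, 20, 4, 4, 36, -28, -12, 4, 0, -35,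
    -35, -11, -11, 4, 4, -3, -3, 5, 5, 8, 0, 0, 4, 4, -4, -4, -4, -4, 4, 4, 4, 0, 0, -1, -1, 0, 0, 0, -7, -7, 2, 2, 1, 1, 1, 1, 1, 1, -2, -2, 1, 1, 0,
    0, 0, 0, 0, 0, 0, 0, 0, 0, 0, 1, 1, 0, 0, 0, 0, -1, -1, -1, -1, 0, 0, 0, 0]

/-- degree `1299480` -/
def r41 : List ℤ := [1299480, 19992, -12264, 536, -360, 357, -21, 24, -200, 408, 56, 280, -176, 144, -40, -8, 24, 16, -16, -24, 16, 0, -8, 5, -15, -9,
    -3, 3, 12, 12, -7, -1, -3, 3, 0, 0, 0, -8, 8, 4, -4, 4, -4, 0, 0, 0, 0, 0, 0, 0, 1, -3, 1, -3, -5, -2, -6, 3, 7, 1, -3, 1, -1, 2, -2, -1, 1, 0, 0,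
    0, 0, 0, -1, 2, 0, 0, 0, 0, 0, 0, -1, -1, 0, 0, -1, 1, -1, 1, 0, 0, 1, 0]

/-- degree `1299480` -/
def r42 : List ℤ := [1299480, -12264, 19992, 536, -360, -21, 357, 24, 408, -200, 280, 56, -176, 144, -8, -40, 24, -16, 16, -24, 16, 0, -8, 5, -9, -15,
    3, -3, 12, 12, -1, -7, 3, -3, 0, 0, 0, -8, 8, -4, 4, -4, 4, 0, 0, 0, 0, 0, 0, 0, -3, 1, 1, -5, -3, -6, -2, -3, 1, 7, 3, -1, 1, -2, 2, 1, -1, 0, 0,
    0, 0, 0, 2, -1, 0, 0, 0, 0, 0, 0, -1, -1, 0, 0, 1, -1, 1, -1, 0, 0, 0, 1]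

/-- degree `1342575` -/
def r43 : List ℤ := [1342575, 29295, -5265, 2415, -273, 405, 0, 0, -81, -225, 495, -97, -105, -105, -81, 63, 31, -9, 7, 15, -25, -9, -1, 0, 45, 0,
    -27, 0, 0, 0, -3, 0, -3, 0, 0, 3, -4, -5, -5, 3, 3, 7, 7, 3, -5, 3, -1, -1, 0, 0, 0, 0, 0, -3, 0, 0, 0, -3, -3, 0, 0, 5, 0, 0, 0, 1, 0, 0, 0, 0,
    -1, 0, 0, 0, 1, 1, 1, 0, 0, 0, 0, 0, 0, -1, 1, 1, 0, 0, 1, -2, 0, 0]

/-- degree `1342575` -/
def r44 : List ℤ := [1342575, -5265, 29295, 2415, -273, 0, 405, 0, -225, -81, -97, 495, -105, -105, 63, -81, 31, 7, -9, 15, -25, -9, -1, 0, 0, 45, 0,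
    -27, 0, 0, 0, -3, 0, -3, 0, -4, 3, -5, -5, 7, 7, 3, 3, 3, 3, -5, -1, -1, 0, 0, 0, 0, 0, 0, -3, 0, 0, 0, 0, -3, -3, 0, 5, 0, 0, 0, 1, 0, 0, 0, 0,
    -1, 0, 0, 1, 1, 1, 0, 0, 0, 0, 0, -1, 0, 0, 0, 1, 1, -2, 1, 0, 0]

/-- degree `1949220` -/
def r45 : List ℤ := [1949220, 35364, 3108, 2084, 292, 441, 63, 36, 36, -252, 420, -252, 36, 36, 36, -60, -60, -28, 4, -12, 4, -12, -12, -5, 9, 15, 9,
    15, 12, 12, -7, -1, 1, 7, 4, 0, 0, -4, -4, 4, 4, -4, -4, -4, -4, -4, 0, 0, 0, 0, 3, -1, -1, -3, 3, 0, 0, -3, -3, 3, 3, -3, 3, 0, 0, 1, -1, 0, 0,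
    0, 0, 0, -2, 1, 0, 0, 0, 0, 0, 0, 1, 1, 0, 0, -1, -1, 1, 1, 0, 0, 0, -1]

/-- degree `1949220` -/
def r46 : List ℤ := [1949220, 3108, 35364, 2084, 292, 63, 441, 36, -252, 36, -252, 420, 36, 36, -60, 36, -60, 4, -28, -12, 4, -12, -12, -5, 15, 9, 15,
    9, 12, 12, -1, -7, 7, 1, 4, 0, 0, -4, -4, -4, -4, 4, 4, -4, -4, -4, 0, 0, 0, 0, -1, 3, -1, 3, -3, 0, 0, 3, 3, -3, -3, 3, -3, 0, 0, -1, 1, 0, 0, 0,
    0, 0, 1, -2, 0, 0, 0, 0, 0, 0, 1, 1, 0, 0, 1, 1, -1, -1, 0, 0, -1, 0]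

/-- degree `2165800` -/
def r47 : List ℤ := [2165800, 15400, -2520, -2520, 296, 490, 175, 22, 872, -56, -280, -56, -40, -40, -24, 8, 8, -40, -8, -24, -8, 24, 8, 0, 10, 15,
    -6, -17, 10, -18, -6, 15, 2, -1, 2, 0, 0, 0, 0, 8, 8, 0, 0, 0, 0, 0, 0, 0, -2, 1, 0, 0, 0, -2, -1, 8, -2, 2, 2, -1, -1, -2, -1, 0, 2, -2, -1, 0,
    0, 0, 0, 0, 0, 0, 0, 0, 0, 0, 0, 1, 0, 0, 0, 0, 0, 0, -1, -1, 0, 0, 0, 0]

/-- degree `2165800` -/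
def r48 : List ℤ := [2165800, -2520, 15400, -2520, 296, 175, 490, 22, -56, 872, -56, -280, -40, -40, 8, -24, 8, -8, -40, -24, -8, 24, 8, 0, 15, 10,
    -17, -6, -18, 10, 15, -6, -1, 2, 2, 0, 0, 0, 0, 0, 0, 8, 8, 0, 0, 0, 0, 0, 1, -2, 0, 0, 0, -1, -2, -2, 8, -1, -1, 2, 2, -1, -2, 2, 0, -1, -2, 0,
    0, 0, 0, 0, 0, 0, 0, 0, 0, 0, 1, 0, 0, 0, 0, 0, -1, -1, 0, 0, 0, 0, 0, 0]

/-- degree `2784600` -/
def r49 : List ℤ := [2784600, -10920, -18600, 1880, -40, -315, 225, -18, 408, 504, 280, -8, 80, -240, -8, 24, 24, -16, -48, -24, 16, 0, -8, 0, -15,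
    45, -3, 9, 6, -6, -7, 5, 5, -7, 2, 7, 0, 8, -8, 4, -4, 4, -4, 0, 0, 0, 0, 0, 0, 0, 0, 0, 0, -3, -3, -6, 0, 3, -1, -1, 3, 1, 1, -2, 0, 3, -1, 0, 0,
    0, -1, 0, 0, 0, 0, 0, 0, 0, 0, 0, 0, 0, 1, 0, -1, 1, -1, 1, -1, 0, 0, 0]

/-- degree `2784600` -/
def r50 : List ℤ := [2784600, -18600, -10920, 1880, -40, 225, -315, -18, 504, 408, -8, 280, 80, -240, 24, -8, 24, -48, -16, -24, 16, 0, -8, 0, 45,
    -15, 9, -3, -6, 6, 5, -7, -7, 5, 2, 0, 7, 8, -8, -4, 4, -4, 4, 0, 0, 0, 0, 0, 0, 0, 0, 0, 0, -3, -3, 0, -6, 3, -1, -1, 3, 1, 1, 0, -2, -1, 3, 0,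
    0, 0, 0, -1, 0, 0, 0, 0, 0, 0, 0, 0, 0, 0, 0, 1, 1, -1, 1, -1, 0, -1, 0, 0]

/-- degree `2828800` -/
def r51 : List ℤ := [2828800, 43520, 2560, 2560, 512, 280, -260, -44, 512, 0, 512, 0, 0, 0, 0, 0, 0, 0, 0, 0, 0, 0, 0, 0, -40, -20, -8, -4, -4, 4, -8,
    -20, 8, -4, -4, 2, 9, 0, 0, 0, 0, 0, 0, 0, 0, 0, 0, 0, 1, 1, 0, 0, 0, 0, -4, 8, 0, 0, 0, 0, 0, 0, -4, 0, 0, 0, 0, 0, 0, 0, -2, 1, 0, 0, 0, 0, 0,
    0, 1, -1, 0, 0, -1, 0, 0, 0, 0, 0, 0, 1, 0, 0]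

/-- degree `2828800` -/
def r52 : List ℤ := [2828800, 2560, 43520, 2560, 512, -260, 280, -44, 0, 512, 0, 512, 0, 0, 0, 0, 0, 0, 0, 0, 0, 0, 0, 0, -20, -40, -4, -8, 4, -4,
    -20, -8, -4, 8, -4, 9, 2, 0, 0, 0, 0, 0, 0, 0, 0, 0, 0, 0, 1, 1, 0, 0, 0, -4, 0, 0, 8, 0, 0, 0, 0, -4, 0, 0, 0, 0, 0, 0, 0, 0, 1, -2, 0, 0, 0, 0,
    0, 0, -1, 1, 0, 0, 0, -1, 0, 0, 0, 0, 1, 0, 0, 0]

/-- degree `3411968` -/
def r53 : List ℤ := [3411968, -28672, -28672, 4096, 0, 392, 392, 32, 0, 0, 0, 0, 256, -256, 0, 0, 0, 0, 0, 0, 0, 0, 0, -7, -40, -40, 8, 8, -16, -16,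
    -8, -8, 0, 0, 0, 0, 0, 0, 0, 0, 0, 0, 0, 0, 0, 0, 0, 0, -1, -1, 3, 3, 1, 0, 0, 0, 0, -4, 4, 4, -4, 0, 0, 0, 0, 0, 0, 0, 0, 1, 0, 0, 2, 2, 0, 0, 0,
    0, -1, -1, -1, 1, 0, 0, 0, 0, 0, 0, 0, 0, 0, 0]

/-- degree `3898440` -/
def r54 : List ℤ := [3898440, 16968, -15288, 2632, 584, -441, 504, -9, 168, -120, 168, -504, -120, -120, 40, -56, 40, -24, 8, 8, -24, 8, 8, -10, -9,
    24, -9, 24, 3, 3, 7, -8, -1, 8, -1, 0, 0, 0, 0, 0, 0, -8, -8, 0, 0, 0, 0, 0, 0, 0, 2, -2, 2, 3, 0, -3, -3, 3, 3, 0, 0, 3, 0, 1, 1, -1, 0, -1, -1,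
    0, 0, 0, -1, -1, 0, 0, 0, 0, 0, 0, 0, 0, 0, 0, 1, 1, 0, 0, 0, 0, -1, 1]

/-- degree `3898440` -/
def r55 : List ℤ := [3898440, -15288, 16968, 2632, 584, 504, -441, -9, -120, 168, -504, 168, -120, -120, -56, 40, 40, 8, -24, 8, -24, 8, 8, -10, 24,
    -9, 24, -9, 3, 3, -8, 7, 8, -1, -1, 0, 0, 0, 0, -8, -8, 0, 0, 0, 0, 0, 0, 0, 0, 0, -2, 2, 2, 0, 3, -3, -3, 0, 0, 3, 3, 0, 3, 1, 1, 0, -1, -1, -1,
    0, 0, 0, -1, -1, 0, 0, 0, 0, 0, 0, 0, 0, 0, 0, 0, 0, 1, 1, 0, 0, 1, -1]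

/-- degree `4331600` -/
def r56 : List ℤ := [4331600, -5040, -40880, 5200, -432, -280, 350, 17, -112, 80, -112, 336, 80, 80, 16, 80, 16, 16, -48, -16, 16, -16, -16, 0, 0,
    -50, -8, -18, 9, -11, 16, -2, 0, 6, -3, 0, 0, 0, 0, 0, 0, 0, 0, 0, 0, 0, 0, 0, -1, 2, 0, 0, 0, 8, 2, 5, -1, -4, -4, 2, 2, 0, 2, 1, -1, 0, -2, -1,
    -1, 0, 0, 0, 0, 0, 0, 0, 0, 0, 1, 0, 0, 0, 0, 0, 0, 0, 0, 0, 0, 0, 0, 0]

/-- degree `4331600` -/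
def r57 : List ℤ := [4331600, -40880, -5040, 5200, -432, 350, -280, 17, 80, -112, 336, -112, 80, 80, 80, 16, 16, -48, 16, -16, 16, -16, -16, 0, -50,
    0, -18, -8, -11, 9, -2, 16, 6, 0, -3, 0, 0, 0, 0, 0, 0, 0, 0, 0, 0, 0, 0, 0, 2, -1, 0, 0, 0, 2, 8, -1, 5, 2, 2, -4, -4, 2, 0, -1, 1, -2, 0, -1,
    -1, 0, 0, 0, 0, 0, 0, 0, 0, 0, 0, 1, 0, 0, 0, 0, 0, 0, 0, 0, 0, 0, 0, 0]

/-- degree `4385745` -/
def r58 : List ℤ := [4385745, 47313, -1071, 209, -687, 378, -189, 0, -351, 369, 161, 49, 41, 41, -63, -15, 65, -7, 41, -15, -7, 9, 1, -5, -30, -21,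
    -6, 3, 0, 0, 2, 11, -6, 3, 0, 0, 0, -3, -3, 1, 1, -3, -3, 5, 5, -3, 1, 1, 0, 0, -1, 3, -1, 6, -9, 0, 0, 2, 2, -1, -1, -2, -1, 0, 0, 2, -1, 0, 0,
    0, 0, 0, 1, -2, -1, -1, -1, 0, 0, 0, 1, 1, 0, 0, 0, 0, 1, 1, 0, 0, -1, 0]

/-- degree `4385745` -/
def r59 : List ℤ := [4385745, 23121, -25263, 4049, -111, -189, 378, 0, -279, 441, -119, -231, -139, 149, -87, -39, 1, -19, 29, 9, 5, -3, 1, -5, 51,
    -30, 3, -6, 0, 0, -13, 2, 3, -6, 0, 0, 0, 5, -3, -3, 9, 5, -7, 1, 5, -3, 1, 1, 0, 0, -3, 1, -1, 3, 6, 0, 0, -1, -1, 2, 2, 3, -2, 0, 0, -1, 2, 0,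
    0, 0, 0, 0, -2, 1, 1, -1, -1, 0, 0, 0, -1, 1, 0, 0, -1, -1, 0, 0, 0, 0, 0, 1]

/-- degree `4385745` -/
def r60 : List ℤ := [4385745, -1071, 47313, 209, -687, -189, 378, 0, 369, -351, 49, 161, 41, 41, -15, -63, 65, 41, -7, -15, -7, 9, 1, -5, -21, -30, 3,
    -6, 0, 0, 11, 2, 3, -6, 0, 0, 0, -3, -3, -3, -3, 1, 1, 5, -3, 5, 1, 1, 0, 0, 3, -1, -1, -9, 6, 0, 0, -1, -1, 2, 2, -1, -2, 0, 0, -1, 2, 0, 0, 0,
    0, 0, -2, 1, -1, -1, -1, 0, 0, 0, 1, 1, 0, 0, 1, 1, 0, 0, 0, 0, 0, -1]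

/-- degree `4385745` -/
def r61 : List ℤ := [4385745, -25263, 23121, 4049, -111, 378, -189, 0, 441, -279, -231, -119, -139, 149, -39, -87, 1, 29, -19, 9, 5, -3, 1, -5, -30,
    51, -6, 3, 0, 0, 2, -13, -6, 3, 0, 0, 0, 5, -3, -7, 5, 9, -3, 1, -3, 5, 1, 1, 0, 0, 1, -3, -1, 6, 3, 0, 0, 2, 2, -1, -1, -2, 3, 0, 0, 2, -1, 0, 0,
    0, 0, 0, 1, -2, 1, -1, -1, 0, 0, 0, -1, 1, 0, 0, 0, 0, -1, -1, 0, 0, 1, 0]

/-- degree `4526080` -/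
def r62 : List ℤ := [4526080, 36864, -28672, 4096, 0, -56, 232, 16, 0, 0, 0, 0, -256, 256, 0, 0, 0, 0, 0, 0, 0, 0, 0, 5, 24, -40, 8, -24, 0, -16, -8,
    -8, 0, 0, 0, -8, 6, 0, 0, 0, 0, 0, 0, 0, 0, 0, 0, 0, 1, -2, 3, -1, 1, 0, 0, 0, 0, 4, -4, -4, 4, 0, 0, 0, 0, 0, 0, 0, 0, 0, 0, 2, 2, -1, 0, 0, 0,
    0, -1, 0, 1, -1, 1, 0, 0, 0, 0, 0, 0, 0, 0, -1]

/-- degree `4526080` -/
def r63 : List ℤ := [4526080, -28672, 36864, 4096, 0, 232, -56, 16, 0, 0, 0, 0, -256, 256, 0, 0, 0, 0, 0, 0, 0, 0, 0, 5, -40, 24, -24, 8, -16, 0, -8,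
    -8, 0, 0, 0, 6, -8, 0, 0, 0, 0, 0, 0, 0, 0, 0, 0, 0, -2, 1, -1, 3, 1, 0, 0, 0, 0, 4, -4, -4, 4, 0, 0, 0, 0, 0, 0, 0, 0, 0, 2, 0, -1, 2, 0, 0, 0,
    0, 0, -1, 1, -1, 0, 1, 0, 0, 0, 0, 0, 0, -1, 0]

/-- degree `5012280` -/
def r64 : List ℤ := [5012280, 44856, 31032, 1336, -72, 189, 27, 0, -72, -360, 56, -104, 304, -16, 24, -72, -8, 16, -16, -24, -16, 0, -8, 5, -39, 15,
    21, 3, 0, 0, 1, 7, -3, 3, 0, -7, 0, 8, -8, 4, -4, 4, -4, 0, 0, 0, 0, 0, 0, 0, -3, 1, 1, -3, 3, 0, 0, -1, -5, 1, 5, 1, -1, 0, 0, -1, 1, 0, 0, 0, 1,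
    0, 2, -1, 0, 0, 0, 0, 0, 0, -1, -1, -1, 0, -1, 1, -1, 1, 1, 0, 0, 1]

/-- degree `5012280` -/
def r65 : List ℤ := [5012280, 31032, 44856, 1336, -72, 27, 189, 0, -360, -72, -104, 56, 304, -16, -72, 24, -8, -16, 16, -24, -16, 0, -8, 5, 15, -39,
    3, 21, 0, 0, 7, 1, 3, -3, 0, 0, -7, 8, -8, -4, 4, -4, 4, 0, 0, 0, 0, 0, 0, 0, 1, -3, 1, 3, -3, 0, 0, 5, 1, -5, -1, -1, 1, 0, 0, 1, -1, 0, 0, 0, 0,
    1, -1, 2, 0, 0, 0, 0, 0, 0, -1, -1, 0, -1, 1, -1, 1, -1, 0, 1, 1, 0]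

/-- degree `5640192` -/
def r66 : List ℤ := [5640192, 36864, 36864, 4096, 0, -216, -216, 0, 0, 0, 0, 0, 256, -256, 0, 0, 0, 0, 0, 0, 0, 0, 0, 17, 24, 24, -24, -24, 0, 0, -8,
    -8, 0, 0, 0, -2, -2, 0, 0, 0, 0, 0, 0, 0, 0, 0, 0, 0, 0, 0, -1, -1, 1, 0, 0, 0, 0, -4, 4, 4, -4, 0, 0, 0, 0, 0, 0, 0, 0, -1, 2, 2, -1, -1, 0, 0,
    0, 0, 0, 0, -1, 1, 1, 1, 0, 0, 0, 0, 0, 0, -1, -1]

/-- degree `5870592` -/
def r67 : List ℤ := [5870592, 21504, 21504, 5120, 1024, -504, -504, 36, 0, 0, 0, 0, 0, 0, 0, 0, 0, 0, 0, 0, 0, 0, 0, -8, -24, -24, -24, -24, 12, 12,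
    8, 8, -8, -8, 4, 0, 0, 0, 0, 0, 0, 0, 0, 0, 0, 0, 0, 0, 0, 0, 4, 4, 0, 0, 0, 0, 0, 0, 0, 0, 0, 0, 0, 0, 0, 0, 0, 0, 0, 0, 0, 0, 1, 1, 0, 0, 0, -1,
    0, 0, 0, 0, 0, 0, 0, 0, 0, 0, 0, 0, 1, 1]

/-- degree `6497400` -/
def r68 : List ℤ := [6497400, 46200, -7560, 2680, 248, -105, -105, -42, -72, 344, 56, -168, -80, 240, 24, -8, -8, 16, -80, -24, -16, 0, -8, 0, -45,
    75, 15, 15, -6, -18, -5, 19, -1, -1, 2, 0, 0, -8, 8, -4, 4, -4, 4, 0, 0, 0, 0, 0, 0, 0, 0, 0, 0, -1, 3, 0, 2, -3, 1, 1, -3, 3, -1, 0, -2, 1, 1, 0,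
    0, 0, 0, 0, 0, 0, 0, 0, 0, 0, 0, 0, 0, 0, 0, 0, 1, -1, 1, -1, 0, 0, 0, 0]

/-- degree `6497400` -/
def r69 : List ℤ := [6497400, -7560, 46200, 2680, 248, -105, -105, -42, 344, -72, -168, 56, -80, 240, -8, 24, -8, -80, 16, -24, -16, 0, -8, 0, 75,
    -45, 15, 15, -18, -6, 19, -5, -1, -1, 2, 0, 0, -8, 8, 4, -4, 4, -4, 0, 0, 0, 0, 0, 0, 0, 0, 0, 0, 3, -1, 2, 0, -3, 1, 1, -3, -1, 3, -2, 0, 1, 1,
    0, 0, 0, 0, 0, 0, 0, 0, 0, 0, 0, 0, 0, 0, 0, 0, 0, -1, 1, -1, 1, 0, 0, 0, 0]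

/-- degree `7309575` -/
def r70 : List ℤ := [7309575, -28665, -28665, 5895, -249, 0, 0, -27, 855, -681, -105, -105, 135, 135, -9, 119, -25, -9, -9, 7, -25, 7, 7, 0, 0, 0, 0,
    0, 9, 9, 0, 0, 0, 0, -3, 0, 0, -1, -1, 3, 3, 3, 3, -1, 7, -9, -1, -1, 0, 0, 0, 0, 0, 0, 0, -9, 3, 0, 0, 0, 0, 0, 0, 3, -1, 0, 0, 1, 1, 0, 0, 0, 0,
    0, -1, -1, -1, 0, 0, 0, 0, 0, 0, 0, 0, 0, 0, 0, 0, 0, 0, 0]

/-- degree `7309575` -/
def r71 : List ℤ := [7309575, -28665, -28665, 5895, -249, 0, 0, -27, -681, 855, -105, -105, 135, 135, 119, -9, -25, -9, -9, 7, -25, 7, 7, 0, 0, 0, 0,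
    0, 9, 9, 0, 0, 0, 0, -3, 0, 0, -1, -1, 3, 3, 3, 3, -1, -9, 7, -1, -1, 0, 0, 0, 0, 0, 0, 0, 3, -9, 0, 0, 0, 0, 0, 0, -1, 3, 0, 0, 1, 1, 0, 0, 0, 0,
    0, -1, -1, -1, 0, 0, 0, 0, 0, 0, 0, 0, 0, 0, 0, 0, 0, 0, 0]

/-- degree `7894341` -/
def r72 : List ℤ := [7894341, -16443, -16443, 7749, 261, 0, 0, 0, 189, 189, -483, -483, 9, -279, -99, -99, -59, 33, 33, -3, 9, -15, -11, -9, 0, 0, 0,
    0, 0, 0, 0, 0, 0, 0, 0, 0, 0, -3, 5, 9, -3, -3, 9, 9, 5, 5, 1, 1, 0, 0, -3, -3, -1, 0, 0, 0, 0, 0, 0, 0, 0, 0, 0, 0, 0, 0, 0, 0, 0, 0, 0, 0, 0, 0,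
    -1, 1, 1, 0, 0, 0, 1, -1, 0, 0, 0, 0, 0, 0, 0, 0, 0, 0]

/-- degree `8055450` -/
def r73 : List ℤ := [8055450, 72090, -31590, 2970, -486, 0, 0, 0, -54, -486, 330, 90, -270, -270, 42, 90, -54, -30, 18, -6, 2, 18, 10, 0, 0, 0, 0, 0,
    0, 0, 0, 0, 0, 0, 0, -3, -3, 6, 6, -6, -6, 6, 6, -2, -2, 6, 2, 2, 0, 0, 0, 0, 0, 0, 0, 0, 0, 0, 0, 0, 0, 0, 0, 0, 0, 0, 0, 0, 0, 0, 1, -3, 0, 0,
    0, 0, 0, 0, 0, 0, 0, 0, 0, 0, 0, 0, 0, 0, -1, 1, 0, 0]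

/-- degree `8055450` -/
def r74 : List ℤ := [8055450, -31590, 72090, 2970, -486, 0, 0, 0, -486, -54, 90, 330, -270, -270, 90, 42, -54, 18, -30, -6, 2, 18, 10, 0, 0, 0, 0, 0,
    0, 0, 0, 0, 0, 0, 0, -3, -3, 6, 6, 6, 6, -6, -6, -2, 6, -2, 2, 2, 0, 0, 0, 0, 0, 0, 0, 0, 0, 0, 0, 0, 0, 0, 0, 0, 0, 0, 0, 0, 0, 0, -3, 1, 0, 0,
    0, 0, 0, 0, 0, 0, 0, 0, 0, 0, 0, 0, 0, 0, 1, -1, 0, 0]

/-- degree `8771490` -/
def r75 : List ℤ := [8771490, 46242, -2142, -4958, -222, 189, 189, 0, -270, 450, -14, -126, 10, 10, 18, 66, -46, -38, 10, 18, 26, -6, 2, -10, -51, 21,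
    -3, -3, 0, 0, 13, -11, -3, -3, 0, 0, 0, -2, -2, 2, 2, -2, -2, 6, 6, -2, -2, -2, 0, 0, -2, 2, 2, -3, 9, 0, 0, 1, 1, 1, 1, -3, 1, 0, 0, 1, 1, 0, 0,
    0, 0, 0, -1, -1, 0, 0, 0, 0, 0, 0, 0, 0, 0, 0, 1, 1, -1, -1, 0, 0, 1, -1]

/-- degree `8771490` -/
def r76 : List ℤ := [8771490, -2142, 46242, -4958, -222, 189, 189, 0, 450, -270, -126, -14, 10, 10, 66, 18, -46, 10, -38, 18, 26, -6, 2, -10, 21, -51,
    -3, -3, 0, 0, -11, 13, -3, -3, 0, 0, 0, -2, -2, -2, -2, 2, 2, 6, -2, 6, -2, -2, 0, 0, 2, -2, 2, 9, -3, 0, 0, 1, 1, 1, 1, 1, -3, 0, 0, 1, 1, 0, 0,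
    0, 0, 0, -1, -1, 0, 0, 0, 0, 0, 0, 0, 0, 0, 0, -1, -1, 1, 1, 0, 0, -1, 1]

/-- degree `9398025` -/
def r77 : List ℤ := [9398025, -2295, -36855, -6135, 393, 405, 0, 0, 297, 153, -279, 665, -15, -15, 105, -135, -7, -15, 1, 9, 1, -15, -7, 0, 45, 0,
    -27, 0, 0, 0, -3, 0, -3, 0, 0, 0, -7, 5, 5, -3, -3, 1, 1, -3, 5, -3, 1, 1, 0, 0, 0, 0, 0, -3, 0, 0, 0, -3, -3, 0, 0, 5, 0, 0, 0, 1, 0, 0, 0, 0, 0,
    1, 0, 0, -1, -1, -1, 0, 0, 0, 0, 0, 0, -1, 1, 1, 0, 0, 0, 1, 0, 0]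

/-- degree `9398025` -/
def r78 : List ℤ := [9398025, -36855, -2295, -6135, 393, 0, 405, 0, 153, 297, 665, -279, -15, -15, -135, 105, -7, 1, -15, 9, 1, -15, -7, 0, 0, 45, 0,
    -27, 0, 0, 0, -3, 0, -3, 0, -7, 0, 5, 5, 1, 1, -3, -3, -3, -3, 5, 1, 1, 0, 0, 0, 0, 0, 0, -3, 0, 0, 0, 0, -3, -3, 0, 5, 0, 0, 0, 1, 0, 0, 0, 1, 0,
    0, 0, -1, -1, -1, 0, 0, 0, 0, 0, -1, 0, 0, 0, 1, 1, 1, 0, 0, 0]

/-- degree `10740600` -/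
def r79 : List ℤ := [10740600, 27000, -42120, -3720, 120, -405, 0, 0, 216, -72, 216, 568, -120, -120, 24, -72, 24, -24, 8, 24, -24, -24, -8, 0, -45,
    0, 27, 0, 0, 0, 3, 0, 3, 0, 0, 3, -11, 0, 0, 0, 0, 8, 8, 0, 0, 0, 0, 0, 0, 0, 0, 0, 0, 3, 0, 0, 0, 3, 3, 0, 0, -5, 0, 0, 0, -1, 0, 0, 0, 0, -1, 1,
    0, 0, 0, 0, 0, 0, 0, 0, 0, 0, 0, 1, -1, -1, 0, 0, 1, -1, 0, 0]

/-- degree `10740600` -/
def r80 : List ℤ := [10740600, -42120, 27000, -3720, 120, 0, -405, 0, -72, 216, 568, 216, -120, -120, -72, 24, 24, 8, -24, 24, -24, -24, -8, 0, 0,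
    -45, 0, 27, 0, 0, 0, 3, 0, 3, 0, -11, 3, 0, 0, 8, 8, 0, 0, 0, 0, 0, 0, 0, 0, 0, 0, 0, 0, 0, 3, 0, 0, 0, 0, 3, 3, 0, -5, 0, 0, 0, -1, 0, 0, 0, 1,
    -1, 0, 0, 0, 0, 0, 0, 0, 0, 0, 0, 1, 0, 0, 0, -1, -1, -1, 1, 0, 0]

/-- degree `11880960` -/
def r81 : List ℤ := [11880960, 35328, 10752, -5632, 512, 456, -84, -12, -512, 0, -512, 0, 0, 0, 0, 0, 0, 0, 0, 0, 0, 0, 0, 10, -24, -36, -24, 12, 12,
    -12, 8, -4, 8, -4, -4, 0, 7, 0, 0, 0, 0, 0, 0, 0, 0, 0, 0, 0, 0, 0, 2, -2, -2, 0, 4, -8, 0, 0, 0, 0, 0, 0, 4, 0, 0, 0, 0, 0, 0, 0, 0, -1, 1, 1, 0,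
    0, 0, 0, 0, 0, 0, 0, 0, 1, 0, 0, 0, 0, 0, -1, -1, 1]

/-- degree `11880960` -/
def r82 : List ℤ := [11880960, 10752, 35328, -5632, 512, -84, 456, -12, 0, -512, 0, -512, 0, 0, 0, 0, 0, 0, 0, 0, 0, 0, 0, 10, -36, -24, 12, -24, -12,
    12, -4, 8, -4, 8, -4, 7, 0, 0, 0, 0, 0, 0, 0, 0, 0, 0, 0, 0, 0, 0, -2, 2, -2, 4, 0, 0, -8, 0, 0, 0, 0, 4, 0, 0, 0, 0, 0, 0, 0, 0, -1, 0, 1, 1, 0,
    0, 0, 0, 0, 0, 0, 0, 1, 0, 0, 0, 0, 0, -1, 0, 1, -1]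

/-- degree `14034384` -/
def r83 : List ℤ := [14034384, 35280, 35280, -560, -816, -378, -378, 0, 144, 144, -112, -112, 160, 160, -48, -48, 16, -32, -32, 48, 32, 0, 16, -16,
    30, 30, 6, 6, 0, 0, -2, -2, 6, 6, 0, 0, 0, 0, 0, 0, 0, 0, 0, 0, 0, 0, 0, 0, 0, 0, 0, 0, 0, -6, -6, 0, 0, -2, -2, -2, -2, 2, 2, 0, 0, -2, -2, 0, 0,
    0, 0, 0, 2, 2, 0, 0, 0, 0, 0, 0, 0, 0, 0, 0, 0, 0, 0, 0, 0, 0, 0, 0]

/-- degree `14619150` -/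
def r84 : List ℤ := [14619150, 23310, -57330, 270, -114, 0, 0, -54, -162, -498, -546, 462, -90, -90, -66, 14, 30, 54, 6, -18, 22, 6, -2, 0, 0, 0, 0,
    0, -18, 18, 0, 0, 0, 0, 6, 0, 0, 2, 2, 6, 6, -6, -6, -6, -6, 2, -2, -2, 0, 0, 0, 0, 0, 0, 0, 0, 6, 0, 0, 0, 0, 0, 0, 0, 2, 0, 0, 0, 0, 0, 0, 0, 0,
    0, 0, 0, 0, 0, 0, 0, 0, 0, 0, 0, 0, 0, 0, 0, 0, 0, 0, 0]

/-- degree `14619150` -/
def r85 : List ℤ := [14619150, -57330, 23310, 270, -114, 0, 0, -54, -498, -162, 462, -546, -90, -90, 14, -66, 30, 6, 54, -18, 22, 6, -2, 0, 0, 0, 0,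
    0, 18, -18, 0, 0, 0, 0, 6, 0, 0, 2, 2, -6, -6, 6, 6, -6, 2, -6, -2, -2, 0, 0, 0, 0, 0, 0, 0, 6, 0, 0, 0, 0, 0, 0, 0, 2, 0, 0, 0, 0, 0, 0, 0, 0, 0,
    0, 0, 0, 0, 0, 0, 0, 0, 0, 0, 0, 0, 0, 0, 0, 0, 0, 0, 0]

/-- degree `15181425` -/
def r86 : List ℤ := [15181425, -59535, -59535, -1935, 369, 0, 0, 0, -351, -351, 609, 609, 225, 225, -63, -63, -47, -15, -15, -15, 1, 33, 17, 0, 0, 0,
    0, 0, 0, 0, 0, 0, 0, 0, 0, 0, 0, -7, -7, -3, -3, -3, -3, 9, 1, 1, 1, 1, 0, 0, 0, 0, 0, 0, 0, 0, 0, 0, 0, 0, 0, 0, 0, 0, 0, 0, 0, 0, 0, -1, 0, 0,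
    0, 0, 1, 1, 1, 0, 0, 0, 0, 0, 0, 0, 0, 0, 0, 0, 0, 0, 0, 0]

/-- degree `16777216` -/
def r87 : List ℤ := [16777216, 0, 0, 0, 0, -512, -512, 64, 0, 0, 0, 0, 0, 0, 0, 0, 0, 0, 0, 0, 0, 0, 0, 16, 0, 0, 0, 0, 0, 0, 0, 0, 0, 0, 0, 8, 8, 0,
    0, 0, 0, 0, 0, 0, 0, 0, 0, 0, -2, -2, 0, 0, 0, 0, 0, 0, 0, 0, 0, 0, 0, 0, 0, 0, 0, 0, 0, 0, 0, 1, 0, 0, -2, -2, 0, 0, 0, 1, 0, 0, 0, 0, -1, -1, 0,
    0, 0, 0, 0, 0, 0, 0]

/-- degree `17326400` -/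
def r88 : List ℤ := [17326400, -20160, -20160, 320, 320, 140, 140, 68, -448, -448, -448, -448, 0, 0, 64, 64, 64, 0, 0, 0, 0, 0, 0, 0, 60, 60, 12, 12,
    0, 0, -4, -4, -4, -4, -4, 0, 0, 0, 0, 0, 0, 0, 0, 0, 0, 0, 0, 0, 2, 2, 0, 0, 0, -4, -4, 2, 2, 0, 0, 0, 0, -4, -4, -2, -2, 0, 0, 0, 0, 0, 0, 0, 0,
    0, 0, 0, 0, 0, 0, 0, 0, 0, 0, 0, 0, 0, 0, 0, 0, 0, 0, 0]

/-- the rational irreducible characters -/
def rA : List (List ℤ) := [r0, r1, r2, r3, r4, r5, r6, r7, r8, r9, r10, r11, r12, r13, r14, r15, r16, r17, r18, r19, r20, r21, r22, r23, r24, r25,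
    r26, r27, r28, r29, r30, r31, r32, r33, r34, r35, r36, r37, r38, r39, r40, r41, r42, r43, r44, r45, r46, r47, r48, r49, r50, r51, r52, r53, r54,
    r55, r56, r57, r58, r59, r60, r61, r62, r63, r64, r65, r66, r67, r68, r69, r70, r71, r72, r73, r74, r75, r76, r77, r78, r79, r80, r81, r82, r83,
    r84, r85, r86, r87, r88]

/-- degree `285768` -/
def r89 : List ℤ := [285768, -4536, -4536, 72, 72, 0, 0, 0, -216, -216, 168, 168, 72, 72, -24, -24, 8, -24, -24, -24, 8, -24, 40, 18, 0, 0, 0, 0, 0,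
    0, 0, 0, 0, 0, 0, 0, 0, -8, -8, 0, 0, 0, 0, -8, 8, 8, 0, 0, 0, 0, -6, -6, 2, 0, 0, 0, 0, 0, 0, 0, 0, 0, 0, 0, 0, 0, 0, 0, 0, 2, 0, 0, 0, 0, 0, 0,
    0, -2, 0, 0, 2, 2, 0, 0, 0, 0, 0, 0, 0, 0, 0, 0]

/-- degree `367200` -/
def r90 : List ℤ := [367200, -1440, -1440, -1440, 96, 0, 0, -54, 96, 96, 96, 96, 0, 0, -32, -32, -32, 0, 0, 32, 0, 64, -32, 0, 0, 0, 0, 0, 18, 18, 0,
    0, 0, 0, -6, -6, -6, 0, 0, 0, 0, 0, 0, 0, 0, 0, 0, 0, 0, 0, 0, 0, 0, 0, 0, 6, 6, 0, 0, 0, 0, 0, 0, -2, -2, 0, 0, 2, -2, 2, 2, 2, 0, 0, 0, 0, 0, 0,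
    0, 0, 0, 0, 0, 0, 0, 0, 0, 0, -2, -2, 0, 0]

/-- degree `23218650` -/
def r91 : List ℤ := [23218650, -5670, -5670, -5670, -1062, 0, 0, 0, 1242, 1242, -294, -294, 90, 90, 90, 90, -38, 90, 90, -6, -38, -6, -6, 0, 0, 0, 0,
    0, 0, 0, 0, 0, 0, 0, 0, 0, 0, -6, -6, -6, -6, -6, -6, -6, -6, -6, 2, 2, 0, 0, 0, 0, 0, 0, 0, 0, 0, 0, 0, 0, 0, 0, 0, 0, 0, 0, 0, 0, 0, 0, 0, 0, 0,
    0, 2, 2, 2, -1, 0, 0, 0, 0, 0, 0, 0, 0, 0, 0, 0, 0, 0, 0]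

/-- the sums of the pairs of degrees `142884`, `183600`, `11609325` -/
def rB : List (List ℤ) := [r89, r90, r91]

/-- the degrees -/
def degL : List ℕ := [1, 833, 1105, 1105, 1326, 1377, 21658, 22932, 23205, 23205, 44200, 44200, 63700, 99450, 99450, 162435, 162435, 216580, 216580,
    249900, 269892, 270725, 322218, 348075, 348075, 358020, 358020, 519792, 541450, 541450, 541450, 541450, 584766, 626535, 626535, 812175, 812175,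
    877149, 877149, 947700, 1082900, 1299480, 1299480, 1342575, 1342575, 1949220, 1949220, 2165800, 2165800, 2784600, 2784600, 2828800, 2828800,
    3411968, 3898440, 3898440, 4331600, 4331600, 4385745, 4385745, 4385745, 4385745, 4526080, 4526080, 5012280, 5012280, 5640192, 5870592, 6497400,
    6497400, 7309575, 7309575, 7894341, 8055450, 8055450, 8771490, 8771490, 9398025, 9398025, 10740600, 10740600, 11880960, 11880960, 14034384,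
    14619150, 14619150, 15181425, 16777216, 17326400, 142884, 142884, 183600, 183600, 11609325, 11609325]

/-- the primes and the sections -/
def PL : List (ℕ × ℕ × List ℕ) := [(2, 24, [0, 5, 6, 7, 23, 35, 36, 48, 49, 72, 73]),
  (3, 6, [0, 1, 2, 3, 4, 8, 9, 10, 11, 12, 13, 14, 15, 17, 18, 19, 21, 23, 35, 36, 39, 40, 41, 42, 50, 51]),
  (5, 2, [0, 1, 2, 3, 5, 6, 12, 13, 24, 25]),
  (7, 2, [0, 1, 2, 5, 6, 10, 11]),
  (13, 1, [0]),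
  (17, 1, [0])]

/-- the certificates -/
def CL : List (ℕ × ℕ × List Cert) := [
  (2, 24, [
⟨0, [.gen 0 1 0, .gen 1 1 0, .gen 2 1 0, .mul 2 0, .mul 3 0, .mul 4 0, .mul 5 0, .mul 5 4, .mul 6 4, .mul 7 4, .mul 8 2, .mul 9 2, .mul 9 9, .mul 10
      9, .mul 11 6, .mul 12 2, .gen 3 1 0, .mul 16 0, .mul 17 0, .mul 17 2, .mul 17 3, .mul 18 3, .mul 5 5, .gen 4 1 0, .mul 23 0, .mul 24 0, .mul 24
      2, .mul 25 2, .mul 25 4, .mul 12 5, .mul 6 6, .gen 5 1 0, .mul 31 0, .gen 7 1 0, .mul 33 0, .gen 0 1 1, .mul 35 0, .gen 1 1 1, .lin [(5012910,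
      33), (707006, 32), (1575718, 31), (11165104, 30), (316644, 29), (11973624, 28), (3880198, 27), (15761802, 26), (16268304, 25), (10888100, 24),
      (13432270, 23), (15895894, 22), (10134852, 21), (13094712, 20), (11613253, 19), (8080929, 18), (5170087, 17), (10275872, 16), (2513910, 15),
      (5519254, 14), (4903598, 13), (9220754, 12), (9095076, 11), (7315838, 10), (16761244, 9), (9786283, 8), (9869102, 7), (9390966, 6), (8392498,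
      5), (5104506, 4), (10740534, 3), (14014556, 1), (11151268, 0)], .lin [(3196536, 32), (336682, 31), (3506456, 30), (5274208, 29), (500956, 28),
      (2434086, 27), (80160, 26), (10967726, 25), (8085146, 24), (6692300, 23), (16753386, 22), (4712909, 21), (7262845, 20), (15615179, 19),
      (2393309, 18), (15435460, 17), (13503935, 16), (9776326, 15), (11097340, 14), (8457482, 13), (16404244, 12), (2992592, 11), (10810008, 10),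
      (6537836, 9), (11274008, 8), (9386432, 7), (9685304, 6), (10222504, 5), (13233696, 4), (9757724, 2), (7019492, 1)], .lin [(2709003, 35),
      (10060659, 34), (2027680, 33), (4418579, 32), (14455988, 31), (14805179, 30), (8396523, 29), (13442256, 28), (2399469, 27), (5574131, 26),
      (11476469, 25), (11674024, 24), (7923861, 23), (14769503, 22), (14412949, 21), (15417715, 20), (8625748, 19), (5624269, 18), (12986388, 17),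
      (2364189, 16), (5421601, 15), (10330934, 14), (12313664, 13), (826553, 12), (5805671, 11), (7220295, 10), (13692296, 9), (1789243, 8),
      (11692181, 7), (15523695, 6), (7544549, 5), (10424570, 3), (2158342, 2)], .lin [(14754971, 35), (4974141, 34), (5856319, 33), (12166941, 32),
      (16068290, 31), (14439049, 30), (16431884, 29), (7728311, 28), (159331, 27), (4014808, 26), (3002573, 25), (3472434, 24), (12260883, 23),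
      (11030600, 22), (5339850, 21), (6615634, 20), (3359256, 19), (7858069, 18), (2051785, 17), (9812224, 16), (11484259, 15), (2553337, 14),
      (3790609, 13), (9614654, 12), (8256511, 11), (16082686, 10), (7347483, 9), (7244541, 8), (7497941, 7), (8677263, 6), (7874262, 4), (13097258,
      3)], .lin [(6469266, 32), (9274872, 31), (11972984, 30), (6814432, 29), (10931698, 28), (15476104, 27), (12997448, 26), (7073781, 25), (3529278,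
      24), (11105073, 23), (14968439, 22), (11101198, 21), (9839187, 20), (1614955, 19), (14870132, 18), (2340644, 17), (5146504, 16), (821964, 15),
      (5820442, 14), (9327514, 13), (9618528, 12), (10268892, 11), (15440792, 10), (8215688, 9), (2333892, 8), (16045180, 7), (7063584, 5), (9713632,
      4)], .lin [(11280749, 35), (15714624, 34), (10897799, 33), (9236050, 32), (3423166, 31), (11669468, 30), (1524252, 29), (10304914, 28),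
      (3863982, 27), (12113393, 26), (16331785, 25), (4052936, 24), (6445955, 23), (5439713, 22), (2325054, 21), (5273511, 20), (2091317, 19),
      (4756028, 18), (4331811, 17), (4768030, 16), (8531120, 15), (11740774, 14), (5510096, 13), (14215836, 12), (6259324, 11), (2924508, 10),
      (2937254, 9), (1549810, 8), (6818676, 6), (1569932, 5)], .lin [(15194662, 33), (14361278, 32), (11202413, 31), (14664751, 30), (16128572, 29),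
      (3356696, 28), (11578600, 27), (13662223, 26), (12278627, 25), (11011323, 24), (10416612, 23), (5616225, 22), (4708465, 21), (8451066, 20),
      (1777471, 19), (2223407, 18), (6209896, 17), (5758372, 16), (8047864, 15), (13010014, 14), (2391740, 13), (11579447, 12), (6442285, 11),
      (16774773, 10), (7737451, 9), (6733696, 7), (5849216, 6)], .lin [(9585479, 34), (10846307, 33), (7626548, 31), (599422, 30), (15754604, 29),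
      (16056754, 28), (1525457, 27), (6160839, 26), (8802667, 25), (6496138, 24), (16536985, 23), (9182356, 22), (9606870, 21), (15761620, 20),
      (3163950, 19), (13694226, 18), (15414296, 17), (15232742, 16), (3205832, 15), (8637712, 14), (5522924, 13), (15483900, 12), (15963597, 11),
      (13353211, 10), (9815892, 8), (2767020, 7)], .lin [(10942961, 42), (11381781, 39), (3682980, 37), (2246719, 36), (11143766, 34), (3192699, 32),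
      (4842044, 31), (11856168, 30), (4180225, 28), (9862096, 27), (8859198, 26), (15285113, 25), (6287788, 24), (14362400, 23), (12738012, 22),
      (4812846, 21), (12866352, 20), (1611990, 19), (13459733, 18), (6965751, 17), (9795972, 16), (11125242, 15), (16682920, 14), (8888076, 13),
      (9328879, 12), (13892377, 11), (7750238, 9), (13221282, 8)], .lin [(16267691, 38), (10256051, 37), (13568325, 35), (7298046, 33), (817966, 32),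
      (168499, 31), (7012479, 29), (16761932, 28), (5068268, 27), (16392748, 26), (8904512, 25), (4099234, 24), (13249301, 23), (2307583, 22),
      (5745860, 21), (2117213, 20), (6951579, 19), (8599456, 18), (11103229, 17), (5097682, 16), (8951700, 15), (13332904, 14), (4341672, 13),
      (13339096, 12), (5079546, 10), (11697670, 9)], .lin [(16609667, 38), (529474, 36), (15059765, 34), (9607565, 33), (4115983, 32), (747830, 30),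
      (6832142, 29), (15581691, 28), (9587864, 27), (12624096, 26), (12134212, 25), (11402205, 24), (13178718, 23), (15468583, 22), (8286205, 21),
      (6056683, 20), (8098534, 19), (11456513, 18), (3333578, 17), (8102457, 16), (1649467, 15), (16575261, 14), (10033975, 13), (1752436, 11),
      (10830476, 10)], .lin [(9123114, 35), (13135477, 34), (357573, 33), (5421677, 31), (13858838, 30), (7989333, 29), (6907891, 28), (6850404, 27),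
      (7851588, 26), (9874457, 25), (13192674, 24), (7260887, 23), (2224978, 22), (15940785, 21), (4550087, 20), (869761, 19), (3255748, 18),
      (4100380, 17), (11218804, 16), (11206029, 15), (2121559, 14), (1941112, 12), (2253192, 11)], .lin [(9091217, 38), (3670782, 36), (3919652, 35),
      (12799067, 34), (10235672, 31), (5170811, 30), (2500307, 29), (7773268, 28), (10632576, 27), (2083387, 26), (4809878, 25), (9015109, 24),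
      (7663514, 23), (4122758, 22), (9141534, 21), (8614214, 20), (2854930, 19), (3582266, 18), (9611070, 17), (3797127, 16), (13487061, 15),
      (14300706, 13), (6670814, 12)], .lin [(8523789, 44), (639413, 37), (2012703, 35), (3209405, 31), (14314325, 30), (3610636, 29), (3671224, 28),
      (13936193, 27), (286599, 26), (13287298, 25), (3179945, 24), (2843087, 23), (4702734, 22), (13224714, 21), (12032337, 20), (2070514, 19),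
      (14181304, 18), (7662319, 17), (11178285, 16), (10217336, 14), (10754184, 13)], .lin [(984065, 32), (13392934, 31), (2376584, 30), (12625210,
      29), (2181356, 28), (5905264, 27), (11345156, 26), (8619664, 25), (6062028, 24), (14641068, 23), (7198353, 22), (14790940, 21), (4838284, 20),
      (2875700, 19), (9538960, 18), (5854724, 17), (2098780, 15), (14678436, 14)], .lin [(1737377, 39), (697426, 37), (812455, 32), (12208932, 31),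
      (7018528, 30), (16174704, 29), (9616326, 28), (9940311, 27), (9164271, 26), (3205280, 25), (4531206, 24), (13313215, 23), (16191219, 22),
      (5128186, 21), (5880710, 20), (10153858, 19), (7163046, 18), (8175247, 16), (12796273, 15)], .lin [(6350705, 33), (6194812, 32), (4058104, 31),
      (6249316, 30), (255614, 29), (15253694, 28), (7123407, 27), (212765, 26), (1250840, 25), (16001767, 24), (2460428, 23), (7933363, 22), (2399105,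
      21), (3952120, 20), (9630396, 19), (7336172, 17), (1052436, 16)], .lin [(14463006, 32), (16030409, 31), (32856, 30), (4536231, 29), (9969262,
      28), (3231199, 27), (752113, 26), (8912556, 25), (6019613, 24), (13730755, 23), (11718373, 22), (13453244, 21), (14871467, 20), (4811853, 18),
      (7771059, 17)], .lin [(7172663, 40), (12396038, 31), (3114080, 30), (12383076, 29), (11307718, 28), (1372094, 27), (13705964, 26), (11674990,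
      25), (12153330, 24), (8934168, 23), (3443737, 22), (8867048, 21), (11107882, 19), (1475030, 18)], .lin [(2706392, 32), (5357800, 31), (4028247,
      30), (1827723, 29), (14300114, 28), (6675256, 27), (2810866, 26), (5400689, 25), (3344775, 24), (3911678, 23), (10791480, 22), (10050274, 20),
      (6726942, 19)], .lin [(6303962, 33), (7566158, 32), (5088216, 30), (14626213, 29), (9705166, 28), (2487896, 27), (5654552, 26), (11413871, 25),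
      (13639910, 24), (13385710, 23), (13476824, 21), (3300392, 20)], .lin [(11965323, 34), (13730138, 33), (1299386, 31), (13449166, 30), (2873905,
      29), (7235931, 28), (7050694, 27), (2906985, 26), (13015264, 25), (1326627, 24), (13882298, 22), (11283526, 21)], .lin [(5459826, 32),
      (12890243, 31), (14860854, 30), (14137690, 29), (8605551, 28), (2983028, 27), (15439381, 26), (14607749, 25), (13848434, 23), (7123086, 22)],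
      .lin [(6513965, 35), (3115132, 33), (9929487, 31), (10574764, 30), (8004780, 28), (6202452, 27), (6764289, 26), (15698045, 24), (1079171, 23)],
      .lin [(16536099, 34), (8321320, 32), (9700730, 31), (2310232, 29), (7076486, 28), (185043, 27), (9330644, 25), (7446572, 24)], .lin [(3495253,
      33)], .lin [(6008057, 33), (3514147, 31), (10769159, 30), (2833989, 29), (8728687, 27), (8048529, 26)], .lin [(1, 32), (5592405, 30), (5592406,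
      28), (11184810, 27)], .lin [(5592408, 31), (14680063, 30), (3495251, 29), (2796204, 28)], .lin [(5592406, 32), (5592405, 30), (11184811, 29)],
      .lin [(1, 34), (16777215, 33), (16777215, 31)], .lin [(1, 32)], .lin [(1, 35)]], [(31, 1), (32, 2), (33, 4), (29, 2), (30, 8), (22, 4), (23, 8),
      (24, 8), (25, 16), (26, 4), (27, 16), (28, 16), (20, 16), (21, 64), (18, 16), (16, 16), (19, 128), (14, 32), (15, 128), (17, 64), (9, 256), (10,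
      1024), (11, 64), (12, 256), (13, 128), (5, 512), (6, 512), (7, 2048), (8, 8192), (4, 1024), (0, 8192), (1, 65536), (2, 131072)]⟩,
⟨5, [.one, .gen 0 1 0, .mul 0 0, .mul 1 0, .mul 2 0, .mul 3 0, .gen 1 1 0, .mul 5 0, .mul 6 0, .mul 2 2, .gen 2 1 0, .mul 9 0, .lin [(7307241, 11),
      (2256617, 10), (11687286, 9), (327686, 8), (14559905, 7), (14192913, 6), (9437168, 5), (7340048, 3)], .lin [(1703921, 12), (14155784, 11),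
      (16515078, 10), (9961472, 9), (7995393, 8), (3670016, 6), (13107200, 4), (7340040, 2), (9437176, 1)], .lin [(349544, 13), (6000177, 12),
      (15262596, 11), (11942115, 10), (5068119, 7), (11709097, 5), (1165076, 3), (15612140, 2)], .lin [(2936013, 14), (1118481, 13), (4334114, 12),
      (9507089, 4), (15658735, 3)], .lin [(9437187, 15), (13631485, 14), (9437183, 13), (15728639, 12), (12582908, 9), (4194308, 8), (2097154, 6)],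
      .lin [(4194304, 16), (2796202, 15), (15379115, 14), (2796202, 10), (13981014, 9), (11184811, 7)], .lin [(10485761, 17), (12582913, 16),
      (10485758, 15), (4194305, 11), (12582911, 10)], .lin [(14680067, 18), (14680063, 16), (4194302, 8)], .lin [(4194305, 19), (12582911, 9)], .lin
      [(8388608, 20), (8388609, 19), (1, 14)], .lin [(1, 21), (1, 20)], .lin [(1, 22)]], [(10, 1), (11, 2), (9, 2), (6, 4), (7, 8), (4, 4), (5, 8),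
      (8, 16), (0, 16), (1, 32), (2, 128), (3, 512)]⟩,
⟨6, [.gen 1 1 0, .mul 0 0, .mul 1 0, .mul 2 0, .mul 3 0, .mul 4 0, .gen 3 1 0, .mul 6 0, .mul 7 0, .mul 8 0, .mul 3 3, .mul 4 3, .mul 5 3, .mul 6 2,
      .gen 4 1 0, .mul 14 0, .lin [(9218044, 11), (8624956, 10), (13855258, 9), (14340724, 8), (2058174, 7), (8077164, 6), (6532249, 5), (11445010,
      4), (2461369, 3), (9291538, 2), (9218044, 1), (8624956, 0)], .lin [(12538584, 11), (571808, 10), (9184726, 9), (14309032, 8), (5954190, 7),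
      (6929239, 6), (9207758, 5), (9050991, 4), (10320853, 3), (12538584, 1)], .lin [(13310462, 13), (1885950, 12), (14451663, 11), (9499101, 10),
      (3862397, 9), (5741271, 8), (11527839, 7), (8793255, 6), (14023740, 5), (13310462, 3), (1885950, 2)], .lin [(9561395, 16), (9048473, 15),
      (14586920, 14), (15347900, 13), (14242672, 11), (7371099, 10), (11940661, 9), (893480, 6), (15759707, 4), (16007765, 3)], .lin [(15052909, 15),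
      (4247675, 14), (1243366, 12), (2470001, 11), (13063849, 10), (7126924, 7), (6664301, 5), (12636283, 4)], .lin [(11006106, 15), (9079784, 13),
      (9019318, 12), (15455330, 11), (11274163, 8), (11006106, 5)], .lin [(4055261, 18), (12721955, 16), (8446143, 13), (8331073, 12)], .lin
      [(9395241, 14), (7381975, 13)], .lin [(1, 18), (16777215, 14), (1, 8)], .lin [(1, 15)], .lin [(8388607, 11), (8388607, 10)], .lin [(16777215,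
      11)]], [(10, 1), (11, 2), (9, 2), (6, 4), (7, 8), (4, 4), (5, 8), (8, 16), (0, 16), (1, 32), (2, 128), (3, 512)]⟩,
⟨7, [.one, .gen 0 1 0, .mul 0 0, .gen 2 1 0, .mul 2 0, .mul 3 0, .mul 2 2, .mul 3 2, .mul 4 2, .gen 0 3 0, .lin [(12582912, 8), (14680064, 7),
      (699052, 5), (10835286, 4), (7689558, 2), (11184811, 1)], .lin [(8388612, 9), (4194306, 8), (8388610, 6), (1, 5)], .lin [(15379116, 10),
      (11883866, 9), (16078170, 7), (12932437, 4)], .lin [(12582912, 11), (9646899, 10), (15938355, 8)], .lin [(12582918, 12), (2097153, 11),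
      (12582918, 10), (14680063, 7)], .lin [(2, 13), (1, 12)], .lin [(2796203, 14), (11184811, 12)], .lin [(8388607, 15)], .lin [(4194307, 17),
      (1398101, 8)], .lin [(1, 18)]], [(8, 1), (9, 4), (4, 2), (5, 2), (6, 8), (7, 8), (0, 4), (1, 16), (2, 16), (3, 64)]⟩,
⟨23, [.one, .gen 0 1 0, .mul 0 0, .mul 1 0, .gen 1 1 0, .mul 3 0, .lin [(13631485, 5), (5242881, 4), (11534339, 3), (3145727, 2), (4194308, 1),
      (12582916, 0)], .lin [(3495253, 5), (8388608, 4), (4893355, 3), (1398098, 2), (9786706, 1)], .lin [(8388610, 5), (8388606, 4), (4194319, 3),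
      (4194321, 2)], .lin [(8761435, 6), (8015781, 5), (372827, 3)], .lin [(8388607, 4)], .lin [(1, 7)]], [(4, 1), (5, 2), (0, 2), (1, 4), (2, 8), (3,
      16)]⟩,
⟨35, [.one, .gen 1 1 0, .mul 0 0, .lin [(10485765, 2), (8388612, 1), (14680063, 0)], .lin [(11184811, 3), (11184811, 2)], .lin [(1, 4)]], [(2, 1), (0,
      2), (1, 8)]⟩,
⟨36, [.one, .gen 0 1 0, .mul 0 0, .lin [(12582918, 1), (14680063, 0)], .lin [(11184811, 2)], .lin [(1, 4)]], [(2, 1), (0, 2), (1, 8)]⟩,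
⟨48, [.one, .gen 0 1 0, .lin [(8388609, 1), (8388607, 0)], .lin [(1, 2)]], [(0, 1), (1, 2)]⟩,
⟨49, [.one, .gen 3 1 0, .lin [(8388609, 1), (8388607, 0)], .lin [(1, 2)]], [(0, 1), (1, 2)]⟩,
⟨72, [.one, .gen 1 1 0, .lin [(2, 1), (8388607, 0)], .lin [(1, 2)]], [(0, 1), (1, 2)]⟩,
⟨73, [.one, .gen 0 1 0, .lin [(2, 1), (8388607, 0)], .lin [(1, 2)]], [(0, 1), (1, 2)]⟩]),
  (3, 6, [
⟨0, [.one, .gen 2 1 0, .mul 0 0, .gen 3 1 0, .mul 2 0, .lin [(549, 3), (319, 2), (195, 0)], .lin [(293, 4), (175, 1)], .lin [(307, 5)], .lin [(2, 7),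
      (1, 4)], .lin [(1, 8)]], [(4, 1), (5, 3), (1, 3), (2, 27), (0, 27)]⟩,
⟨1, [.gen 0 1 0, .mul 0 0, .mul 1 0, .mul 2 0, .gen 1 1 0, .lin [(146, 4), (489, 3), (645, 2), (178, 1), (108, 0)], .lin [(677, 4), (569, 3), (212,
      2), (126, 1)], .lin [(293, 4), (436, 3), (313, 2)], .lin [(146, 3)], .lin [(1, 5)]], [(4, 1), (1, 3), (2, 3), (0, 9), (3, 81)]⟩,
⟨2, [.one, .gen 0 1 0, .mul 0 0, .mul 1 0, .gen 1 1 0, .lin [(653, 4), (339, 3), (51, 2), (365, 1)], .lin [(728, 5), (676, 4), (677, 3)], .lin [(728,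
      6), (728, 5), (1, 2)], .lin [(146, 7), (146, 6)], .lin [(1, 8)]], [(4, 1), (1, 3), (2, 3), (0, 9), (3, 81)]⟩,
⟨3, [.one, .gen 0 1 0, .mul 0 0, .lin [(486, 2), (363, 1), (716, 0)], .lin [(648, 3), (514, 2)], .lin [(1, 4)]], [(0, 1), (1, 3), (2, 9)]⟩,
⟨4, [.one, .gen 0 1 0, .gen 1 1 0, .mul 1 0, .lin [(156, 3), (291, 2), (677, 1), (146, 0)], .lin [(343, 4), (487, 3), (534, 2)], .lin [(222, 5), (413,
      3)], .lin [(1, 6)]], [(0, 1), (1, 3), (2, 3), (3, 9)]⟩,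
⟨8, [.one, .gen 1 1 0, .mul 0 0, .lin [(27, 2), (717, 1), (1, 0)], .lin [(363, 3), (365, 2)], .lin [(1, 4)]], [(1, 1), (0, 3), (2, 27)]⟩,
⟨9, [.one, .gen 0 1 0, .mul 0 0, .lin [(27, 2), (717, 1), (1, 0)], .lin [(363, 3), (365, 2)], .lin [(1, 4)]], [(1, 1), (0, 3), (2, 27)]⟩,
⟨10, [.one, .gen 1 1 0, .lin [(541, 1), (538, 0)], .lin [(1, 2)]], [(0, 1), (1, 3)]⟩,
⟨11, [.one, .gen 0 1 0, .lin [(541, 1), (538, 0)], .lin [(1, 2)]], [(0, 1), (1, 3)]⟩,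
⟨12, [.one, .gen 0 1 0, .mul 0 0, .lin [(338, 2), (245, 1), (146, 0)], .lin [(185, 3), (547, 2)], .lin [(1, 4)]], [(0, 1), (1, 3), (2, 9)]⟩,
⟨13, [.one, .gen 0 1 0, .mul 0 0, .lin [(9, 2), (558, 1), (266, 0)], .lin [(276, 3), (577, 2)], .lin [(1, 4)]], [(0, 1), (1, 3), (2, 9)]⟩,
⟨14, [.one, .gen 5 1 0, .lin [(491, 1), (485, 0)], .lin [(1, 2)]], [(0, 1), (1, 3)]⟩,
⟨15, [.one, .gen 2 1 0, .lin [(491, 1), (485, 0)], .lin [(1, 2)]], [(0, 1), (1, 3)]⟩,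
⟨17, [.one, .gen 0 1 0, .lin [(3, 1), (1, 0)], .lin [(1, 2)]], [(0, 1), (1, 3)]⟩,
⟨18, [.one, .gen 0 1 0, .lin [(64, 1), (668, 0)], .lin [(1, 2)]], [(0, 1), (1, 3)]⟩,
⟨19, [.one, .gen 2 1 0, .lin [(3, 1), (590, 0)], .lin [(1, 2)]], [(0, 1), (1, 3)]⟩,
⟨21, [.one, .gen 0 1 0, .lin [(3, 1), (1, 0)], .lin [(1, 2)]], [(0, 1), (1, 3)]⟩,
⟨23, [.one, .gen 0 1 0, .mul 0 0, .lin [(410, 2), (328, 1), (647, 0)], .lin [(124, 3), (121, 2)], .lin [(1, 4)]], [(0, 1), (1, 3), (2, 9)]⟩,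
⟨35, [.one, .gen 1 1 0, .lin [(124, 1), (121, 0)], .lin [(1, 2)]], [(0, 1), (1, 3)]⟩,
⟨36, [.one, .gen 0 1 0, .lin [(3, 1), (121, 0)], .lin [(1, 2)]], [(0, 1), (1, 3)]⟩,
⟨39, [.one, .gen 0 1 0, .lin [(244, 1), (485, 0)], .lin [(1, 2)]], [(0, 1), (1, 3)]⟩,
⟨40, [.one, .gen 0 1 0, .lin [(3, 1), (1, 0)], .lin [(1, 2)]], [(0, 1), (1, 3)]⟩,
⟨41, [.one, .gen 1 1 0, .lin [(124, 1), (121, 0)], .lin [(1, 2)]], [(0, 1), (1, 3)]⟩,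
⟨42, [.one, .gen 0 1 0, .lin [(124, 1), (121, 0)], .lin [(1, 2)]], [(0, 1), (1, 3)]⟩,
⟨50, [.one, .gen 4 1 0, .lin [(3, 1), (485, 0)], .lin [(1, 2)]], [(0, 1), (1, 3)]⟩,
⟨51, [.one, .gen 0 1 0, .lin [(3, 1), (485, 0)], .lin [(1, 2)]], [(0, 1), (1, 3)]⟩]),
  (5, 2, [
⟨0, [.one, .lin [(1, 0)]], [(0, 1)]⟩,
⟨1, [.one, .gen 3 1 0, .lin [(5, 1), (19, 0)], .lin [(1, 2)]], [(0, 1), (1, 5)]⟩,
⟨2, [.one, .gen 0 1 0, .lin [(22, 1), (17, 0)], .lin [(1, 2)]], [(0, 1), (1, 5)]⟩,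
⟨3, [.one, .gen 0 1 0, .lin [(11, 1), (19, 0)], .lin [(1, 2)]], [(0, 1), (1, 5)]⟩,
⟨5, [.one, .gen 0 1 0, .lin [(17, 1), (19, 0)], .lin [(1, 2)]], [(0, 1), (1, 5)]⟩,
⟨6, [.one, .gen 0 1 0, .lin [(22, 1), (17, 0)], .lin [(1, 2)]], [(0, 1), (1, 5)]⟩,
⟨12, [.one, .gen 0 1 0, .lin [(18, 1), (13, 0)], .lin [(1, 2)]], [(0, 1), (1, 5)]⟩,
⟨13, [.one, .gen 0 1 0, .lin [(4, 1), (1, 0)], .lin [(1, 2)]], [(0, 1), (1, 5)]⟩,
⟨24, [.one, .gen 0 1 0, .lin [(5, 1), (1, 0)], .lin [(1, 2)]], [(0, 1), (1, 5)]⟩,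
⟨25, [.one, .gen 0 1 0, .lin [(18, 1), (13, 0)], .lin [(1, 2)]], [(0, 1), (1, 5)]⟩]),
  (7, 2, [
⟨0, [.one, .gen 0 1 0, .lin [(40, 1), (33, 0)], .lin [(1, 2)]], [(0, 1), (1, 7)]⟩,
⟨1, [.one, .gen 1 1 0, .lin [(23, 1), (33, 0)], .lin [(1, 2)]], [(0, 1), (1, 7)]⟩,
⟨2, [.one, .gen 0 1 0, .lin [(17, 1), (10, 0)], .lin [(1, 2)]], [(0, 1), (1, 7)]⟩,
⟨5, [.one, .gen 0 1 0, .lin [(7, 1), (41, 0)], .lin [(1, 2)]], [(0, 1), (1, 7)]⟩,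
⟨6, [.one, .gen 0 1 0, .lin [(32, 1), (25, 0)], .lin [(1, 2)]], [(0, 1), (1, 7)]⟩,
⟨10, [.one, .gen 0 1 0, .lin [(7, 1), (1, 0)], .lin [(1, 2)]], [(0, 1), (1, 7)]⟩,
⟨11, [.one, .gen 0 1 0, .lin [(8, 1), (1, 0)], .lin [(1, 2)]], [(0, 1), (1, 7)]⟩]),
  (13, 1, [
⟨0, [.one, .lin [(1, 0)]], [(0, 1)]⟩]),
  (17, 1, [
⟨0, [.one, .lin [(1, 0)]], [(0, 1)]⟩])]

/-- the constituents of `pY` -/
def rY : List (List ℤ) := [r0, r3, r5, r9, r11]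

theorem okY : okSpan D pY [na, nb, nc] rY
    [(69888, [(1, 1)]), (16128, [(259, 0), (-4, 1), (35, 2), (7, 3), (-56, 4)]), (23296, [(455, 0), (4, 1), (39, 2), (-13, 3), (104, 4)]), (768,
      [(254, 0), (1, 1), (-2, 2), (-2, 3), (-16, 4)]), (4032, [(2555, 0), (-5, 1), (-5, 2), (11, 3), (80, 4)])]
    [[(1, 91)], [(2, 91), (-1, 89), (-1, 84)], [(3, 91), (-2, 89), (1, 87), (-2, 84)], [(1, 91), (1, 90), (-1, 89), (-1, 84)], [(3, 91), (1,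
      90), (-2, 89), (1, 87), (-3, 84)]] = true := by
  decide +kernel

/-- the constituents of `pY'` -/
def rY' : List (List ℤ) := [r0, r2, r5, r8, r10]

theorem okY' : okSpan D pY' [na', nb', nc'] rY'
    [(69888, [(1, 1)]), (16128, [(259, 0), (-4, 1), (35, 2), (7, 3), (-56, 4)]), (23296, [(455, 0), (4, 1), (39, 2), (-13, 3), (104, 4)]), (768,
      [(254, 0), (1, 1), (-2, 2), (-2, 3), (-16, 4)]), (4032, [(2555, 0), (-5, 1), (-5, 2), (11, 3), (80, 4)])]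
    [[(1, 90)], [(1, 91), (1, 90), (-1, 89), (-1, 87)], [(1, 90), (-1, 85)], [(2, 91), (-1, 89), (-1, 87)], [(1, 91), (1, 90), (-1, 87), (-1,
      85)]] = true := by
  decide +kernel

/-- the seeds -/
noncomputable def seeds : List (List ℤ) := rY.tail ++ [ntd rY' [] 1, ntd rY' [] 3, ntd rY' [] 4, pX]

theorem okC : Sm1.okC D PL CL seeds (rA ++ rB) = true := by decide +kernel

theorem okR : Sm2.okRows D rA rB = true := by decide +kernel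

theorem ok1 : okOne D = true := by decide +kernel

/-- the table -/
noncomputable def RR : Rows := Sm2.mkRows rA rB

theorem deg_eq : RR.deg = degL := by decide +kernel

variable {G : Type*} [Group G] {T : TD G D}

theorem Hyp.finite (h : Hyp T) : Finite G := Nat.finite_of_card_ne_zero (by rw [h.1.1]; decide)

theorem one_spec : ∀ i < D.n, (i = 0 ∨ D.ord i ≠ 1) ∧ 0 < D.cnt i := fun i hi => by
  simpa only [Bool.and_eq_true, Bool.or_eq_true, beq_iff_eq, bne_iff_ne, decide_eq_true_eq] using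
    List.all_eq_true.1 ok1 i (List.mem_range.2 hi)

theorem ty_one (T : TD G D) : T.ty 1 = 0 :=
  (one_spec _ (T.lt 1)).1.resolve_right fun h => h ((T.ord 1).symm.trans orderOf_one)

theorem Hyp.inh (h : Hyp T) : Inh T := inh_of_mass h.1 fun i hi => (one_spec i hi).2

/-- **the rows are generalized characters** -/
theorem rows_of (h : Hyp T) : ∀ r ∈ rA ++ rB, Virt T (nth r) := by
  have := h.finite
  have h1 := virt_span h.1 (ty_one T) h.inh h.2.2.1 okY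
  have h2 := virt_span h.1 (ty_one T) h.inh h.2.2.2 okY'
  refine Sm1.virt_okC h.1.1 (List.forall_mem_append.2 ⟨fun r hr => h1 r (List.mem_of_mem_tail hr), ?_⟩) okC
  exact List.forall_mem_cons.2 ⟨Virt.ntd h2 1, List.forall_mem_cons.2 ⟨Virt.ntd h2 3,
    List.forall_mem_cons.2 ⟨Virt.ntd h2 4, List.forall_mem_singleton.2 h.2.1⟩⟩⟩

/-- **the table** -/
theorem tab_of (h : Hyp T) : Tab T RR :=
  have := h.finite
  Sm2.tab_of_rows h.1 (ty_one T) (rows_of h) okR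

theorem van_of (h : Hyp T) : VAN.Van3 G :=
  have := h.finite
  (tab_of h).van3 h.inh h.1.1 [(2, 24), (3, 6), (5, 2), (7, 2), (13, 1), (17, 1)] (by decide) 1 77 82
    (by decide +kernel)

theorem odd_of (h : Hyp T) : OddRat G :=
  have := h.finite
  (tab_of h).oddRat h.inh [77] (by decide +kernel) (by decide +kernel)

theorem sig_of (h : Hyp T) : OddSig G :=
  have := h.finite
  (tab_of h).oddSig h.inh [(77, 0, 17, 6)] (by decide +kernel) [] (fun _ h => by cases h) (by decide +kernel)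

theorem deg_of (h : Hyp T) : DegList G degL := deg_eq ▸ (tab_of h).degList

end Cfsg.Agent.TAB.F42
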