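import Cfsg.Agent.TAB.F42.Tab
import Cfsg.Agent.H902.Iso

/-!
# What the consumers need for `F₄(2)`, from the interface `In` (helper15, TAB)
-/

set_option autoImplicit false

namespace Cfsg.Agent.TAB.F42

open Cfsg Cfsg.Lie Cfsg.Agent.TAB.Eng Cfsg.Agent.TAB.Use

theorem iso (F : Type) [Field F] [Fintype F] (h : Fintype.card F = 2) :
    Nonempty (FourTwo.Base.LL ≃* ↥(chevF4.group F)) :=
  H902.Iso.chev_congr (FiniteField.ringEquivOfCardEq (by rw [h, ZMod.card])) chevF4

/-- transport -/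
theorem all_of {G H : Type*} [Group G] [Group H] {T : TD G D} (h : Hyp T) (e : G ≃* H) :
    VAN.Van3 H ∧ OddRat H ∧ OddSig H ∧ DegList H degL :=
  ⟨(van_of h).of_equiv e, Sm1.oddRat_of e (odd_of h), Sm1.oddSig_of e (sig_of h), Sm1.degList_of e (deg_of h)⟩

variable (h : In) (F : Type) [Field F] [Fintype F] (hF : Fintype.card F = 2)
include h hF

theorem van_in : VAN.Van3 (chevF4.group F) := by
  obtain ⟨T, h⟩ := h
  obtain ⟨e⟩ := iso F hF
  exact (all_of h e).1

theorem odd_in : OddRat (chevF4.group F) := by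
  obtain ⟨T, h⟩ := h
  obtain ⟨e⟩ := iso F hF
  exact (all_of h e).2.1

theorem sig_in : OddSig (chevF4.group F) := by
  obtain ⟨T, h⟩ := h
  obtain ⟨e⟩ := iso F hF
  exact (all_of h e).2.2.1

theorem deg_in : DegList (chevF4.group F) degL := by
  obtain ⟨T, h⟩ := h
  obtain ⟨e⟩ := iso F hF
  exact (all_of h e).2.2.2

end Cfsg.Agent.TAB.F42
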