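import Cfsg.Agent.TAB.Eng.Norm

/-!
# `F₄(2)`, table side (helper15): orbital counts

* `Orb T p Ns` : `p` is the permutation character of a `G`-set `X` and the members of `Ns` are functions
  `g ↦ ∑ x, A x (g • x)`.
-/

set_option autoImplicit false

namespace Cfsg.Agent.TAB.F42

open Cfsg Cfsg.Agent.TAB.Eng

universe u

/-- a permutation character with twisted counts -/
def Orb {G : Type u} [Group G] {D : Dat} (T : TD G D) (p : List ℤ) (Ns : List (List ℤ)) : Prop :=
  ∃ (X : Type) (_ : Fintype X) (_ : MulAction G X),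
    (∀ g : G, (Nat.card (MulAction.fixedBy X g) : ℤ) = nth p (T.ty g)) ∧
      ∀ N ∈ Ns, ∃ A : X → X → ℤ, ∀ g : G, ∑ x, A x (g • x) = nth N (T.ty g)

end Cfsg.Agent.TAB.F42
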